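/-
The field configuration of Bender-Glauberman Appendix C: basic identities.

* `Config` : `P U` inside `G`, the prime field part `S` of `P`, its conjugate `T`
* `Config.L` : `T m S (-(m + n)) T n = S (-n) T (m + n) S (-m)`
* `Config.inter` : `P U ∩ T m (P U) T (-m) = U`
* `Config.Z_inj` : the translates `σ i (Z n)` are distinct
-/
import Mathlib
import Cfsg.Agent.EqLemmas
import Cfsg.Agent.Lib.Coprime.Basic

set_option autoImplicit false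

namespace Cfsg.Agent.FinalField

open scoped commutatorElement

/-- `Φ_q(p) = (p ^ q - 1) / (p - 1)`. -/
abbrev normExp (p q : ℕ) : ℕ := (p ^ q - 1) / (p - 1)

/-- The configuration: `ι` embeds the additive group of `F`, `U` acts through `ψ`. -/
structure Config (G : Type*) [Group G] (F : Type*) [Field F] (p q : ℕ) [Algebra (ZMod p) F] where
  ι : F → G
  ι_add : ∀ a b, ι (a + b) = ι a * ι b
  ι_inj : Function.Injective ι
  U : Subgroup G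
  ψ : G → F
  conj : ∀ u ∈ U, ∀ a, u * ι a * u⁻¹ = ι (ψ u * a)
  ψ_mul : ∀ u ∈ U, ∀ v ∈ U, ψ (u * v) = ψ u * ψ v
  ψ_ne : ∀ u ∈ U, ψ u ≠ 0
  ψ_inj : Set.InjOn ψ (U : Set G)
  ψ_pow : ∀ u ∈ U, ψ u ^ normExp p q = 1
  exists_ψ : ∀ x : F, x ^ normExp p q = 1 → ∃ u ∈ U, ψ u = x
  dec : ∀ x : F, x ≠ 0 → ∃ c : ZMod p, c ≠ 0 ∧ (x / algebraMap (ZMod p) F c) ^ normExp p q = 1
  card_U : (Nat.card U).Coprime p
  one_lt : ∃ u ∈ U, u ≠ 1
  Q : Subgroup G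
  Q_comm : ∀ a ∈ Q, ∀ b ∈ Q, a * b = b * a
  Q_cop : (Nat.card Q).Coprime p
  y : G
  y_mem : y ∈ Q
  S_norm : ∀ c : ZMod p, ι (algebraMap (ZMod p) F c) ∈ Subgroup.normalizer (Q : Set G)
  T_norm : ∀ c : ZMod p, y * ι (algebraMap (ZMod p) F c) * y⁻¹ ∈ Subgroup.normalizer (U : Set G)

namespace Config

variable {G : Type*} [Group G] {F : Type*} [Field F] {p q : ℕ} [Algebra (ZMod p) F]
  (cf : Config G F p q)

/-- The prime field part of `P`. -/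
def S (c : ZMod p) : G := cf.ι (algebraMap (ZMod p) F c)

/-- The conjugate of `S` normalizing `U`. -/
def T (c : ZMod p) : G := cf.y * cf.S c * cf.y⁻¹

/-- `T n S (-n)`. -/
def Z (n : ZMod p) : G := cf.T n * cf.S (-n)

/-- Conjugation by `S i`. -/
def σ (i : ZMod p) (x : G) : G := cf.S i * x * cf.S (-i)

/-- Conjugation by `T i`. -/
def τ (i : ZMod p) (x : G) : G := cf.T i * x * cf.T (-i)

theorem ι_zero : cf.ι 0 = 1 := by
  have h := cf.ι_add 0 0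
  rw [add_zero] at h
  exact left_eq_mul.1 h

theorem ι_neg (a : F) : cf.ι (-a) = (cf.ι a)⁻¹ :=
  eq_inv_of_mul_eq_one_left (by rw [← cf.ι_add, neg_add_cancel, cf.ι_zero])

theorem ι_comm (a b : F) : cf.ι a * cf.ι b = cf.ι b * cf.ι a := by
  rw [← cf.ι_add, add_comm, cf.ι_add]

theorem ι_pow (a : F) (n : ℕ) : cf.ι a ^ n = cf.ι ((n : F) * a) := by
  induction n with
  | zero => rw [pow_zero, Nat.cast_zero, zero_mul, cf.ι_zero]
  | succ n ih => rw [pow_succ, ih, ← cf.ι_add]; congr 1; push_cast; ring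

theorem S_zero : cf.S 0 = 1 := by rw [S, map_zero, cf.ι_zero]

theorem S_add (a b : ZMod p) : cf.S (a + b) = cf.S a * cf.S b := by rw [S, map_add, cf.ι_add]; rfl

theorem S_neg (a : ZMod p) : cf.S (-a) = (cf.S a)⁻¹ := by rw [S, map_neg, cf.ι_neg]; rfl

theorem T_zero : cf.T 0 = 1 := by rw [T, cf.S_zero, mul_one, mul_inv_cancel]

theorem T_add (a b : ZMod p) : cf.T (a + b) = cf.T a * cf.T b := by rw [T, T, T, cf.S_add]; group

theorem T_neg (a : ZMod p) : cf.T (-a) = (cf.T a)⁻¹ :=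
  eq_inv_of_mul_eq_one_left (by rw [← cf.T_add, neg_add_cancel, cf.T_zero])

theorem σ_mem {i : ZMod p} {x : G} (hx : x ∈ cf.Q) : cf.σ i x ∈ cf.Q := by
  rw [σ, cf.S_neg]
  exact (Subgroup.mem_normalizer_iff.1 (cf.S_norm i) x).1 hx

theorem σ_zero (x : G) : cf.σ 0 x = x := by rw [σ, neg_zero, cf.S_zero, one_mul, mul_one]

theorem σ_σ (i j : ZMod p) (x : G) : cf.σ i (cf.σ j x) = cf.σ (i + j) x := by
  simp only [σ, cf.S_add, cf.S_neg]
  group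

theorem σ_mul (i : ZMod p) (x y : G) : cf.σ i (x * y) = cf.σ i x * cf.σ i y := by
  simp only [σ, cf.S_neg]
  group

theorem σ_inv (i : ZMod p) (x : G) : cf.σ i x⁻¹ = (cf.σ i x)⁻¹ := by
  simp only [σ, cf.S_neg]
  group

theorem Z_zero : cf.Z 0 = 1 := by rw [Z, cf.T_zero, neg_zero, cf.S_zero, one_mul]

theorem Z_eq (n : ZMod p) : cf.Z n = cf.y * cf.σ n cf.y⁻¹ := by
  rw [Z, T, σ]
  group

theorem Z_mem (n : ZMod p) : cf.Z n ∈ cf.Q := by
  rw [cf.Z_eq]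
  exact mul_mem cf.y_mem (cf.σ_mem (inv_mem cf.y_mem))

theorem T_eq (n : ZMod p) : cf.T n = cf.Z n * cf.S n := by
  rw [Z, mul_assoc, cf.S_neg, inv_mul_cancel, mul_one]

theorem Z_add (a b : ZMod p) : cf.Z (a + b) = cf.Z a * cf.σ a (cf.Z b) := by
  simp only [Z, σ, cf.T_add, cf.S_add, neg_add_rev, cf.S_neg]
  group

/-- The basic relation. -/
theorem L (m n : ZMod p) :
    cf.T m * cf.S (-(m + n)) * cf.T n = cf.S (-n) * cf.T (m + n) * cf.S (-m) := by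
  have h := cf.Q_comm _ (cf.Z_mem m) _ (cf.σ_mem (i := -n) (cf.Z_mem n))
  have e1 : cf.T m * cf.S (-(m + n)) * cf.T n = cf.Z m * cf.σ (-n) (cf.Z n) := by
    simp only [Z, σ, neg_neg, neg_add_rev, cf.S_add, cf.S_neg]
    have h1 : cf.S m * cf.S n = cf.S n * cf.S m := by rw [← cf.S_add, add_comm, cf.S_add]
    have h2 : (cf.S n)⁻¹ * (cf.S m)⁻¹ = (cf.S m)⁻¹ * (cf.S n)⁻¹ := by
      rw [← mul_inv_rev, ← mul_inv_rev, h1]
    rw [h2]
    group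
  have e2 : cf.S (-n) * cf.T (m + n) * cf.S (-m) = cf.σ (-n) (cf.Z n) * cf.Z m := by
    rw [add_comm m n]
    simp only [Z, σ, neg_neg, cf.T_add, cf.S_neg]
    group
  rw [e1, e2, h]

section U

theorem τ_mem {i : ZMod p} {u : G} (hu : u ∈ cf.U) : cf.τ i u ∈ cf.U := by
  rw [τ, cf.T_neg]
  exact (Subgroup.mem_normalizer_iff.1 (cf.T_norm i) u).1 hu

theorem τ_τ (i j : ZMod p) (x : G) : cf.τ i (cf.τ j x) = cf.τ (i + j) x := by
  simp only [τ, cf.T_add, cf.T_neg]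
  group

theorem τ_zero (x : G) : cf.τ 0 x = x := by rw [τ, neg_zero, cf.T_zero, one_mul, mul_one]

theorem τ_mul (i : ZMod p) (x y : G) : cf.τ i (x * y) = cf.τ i x * cf.τ i y := by
  simp only [τ, cf.T_neg]
  group

theorem τ_inv (i : ZMod p) (x : G) : cf.τ i x⁻¹ = (cf.τ i x)⁻¹ := by
  simp only [τ, cf.T_neg]
  group

theorem τ_one (i : ZMod p) : cf.τ i 1 = 1 := by rw [τ, mul_one, ← cf.T_add, add_neg_cancel, cf.T_zero]

theorem T_mul_eq (n : ZMod p) (x : G) : cf.T n * x = cf.τ n x * cf.T n := by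
  rw [τ, cf.T_neg, inv_mul_cancel_right]

theorem mul_T_eq (n : ZMod p) (x : G) : x * cf.T n = cf.T n * cf.τ (-n) x := by
  rw [τ, neg_neg, cf.T_neg]
  group

theorem ψ_one : cf.ψ 1 = 1 := by
  have h := cf.ψ_mul 1 (one_mem _) 1 (one_mem _)
  rw [mul_one] at h
  exact (mul_eq_left₀ (cf.ψ_ne 1 (one_mem _))).1 h.symm

theorem ψ_inv {u : G} (hu : u ∈ cf.U) : cf.ψ u⁻¹ = (cf.ψ u)⁻¹ :=
  eq_inv_of_mul_eq_one_left (by rw [← cf.ψ_mul _ (inv_mem hu) _ hu, inv_mul_cancel, cf.ψ_one])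

theorem eq_one_of_ψ {u : G} (hu : u ∈ cf.U) (h : cf.ψ u = 1) : u = 1 :=
  cf.ψ_inj hu (one_mem cf.U) (h.trans cf.ψ_one.symm)

theorem U_comm {u v : G} (hu : u ∈ cf.U) (hv : v ∈ cf.U) : u * v = v * u :=
  cf.ψ_inj (mul_mem hu hv) (mul_mem hv hu) (by rw [cf.ψ_mul u hu v hv, cf.ψ_mul v hv u hu, mul_comm])

theorem mul_ι {u : G} (hu : u ∈ cf.U) (a : F) : u * cf.ι a = cf.ι (cf.ψ u * a) * u := by
  rw [← cf.conj u hu a, inv_mul_cancel_right]

theorem eq_one_of_ι_mem {a : F} (h : cf.ι a ∈ cf.U) : a = 0 := by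
  have h1 : cf.ψ (cf.ι a) * 1 = 1 := cf.ι_inj (by
    rw [← cf.conj _ h 1, cf.ι_comm, mul_inv_cancel_right])
  rw [mul_one] at h1
  exact cf.ι_inj ((cf.eq_one_of_ψ h h1).trans cf.ι_zero.symm)

theorem nf_unique {a b : F} {u v : G} (hu : u ∈ cf.U) (hv : v ∈ cf.U)
    (h : cf.ι a * u = cf.ι b * v) : a = b ∧ u = v := by
  have h1 : cf.ι (-b + a) = v * u⁻¹ := by
    rw [cf.ι_add, cf.ι_neg, eq_mul_inv_iff_mul_eq, mul_assoc, h, inv_mul_cancel_left]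
  have h2 := cf.eq_one_of_ι_mem (h1 ▸ mul_mem hv (inv_mem hu))
  rw [neg_add_eq_zero] at h2
  subst h2
  exact ⟨rfl, mul_left_cancel h⟩

/-- `P U`. -/
def H : Subgroup G where
  carrier := {g | ∃ a, ∃ u ∈ cf.U, g = cf.ι a * u}
  one_mem' := ⟨0, 1, one_mem _, by rw [cf.ι_zero, one_mul]⟩
  mul_mem' := by
    rintro _ _ ⟨a, u, hu, rfl⟩ ⟨b, v, hv, rfl⟩
    refine ⟨a + cf.ψ u * b, u * v, mul_mem hu hv, ?_⟩
    rw [cf.ι_add, mul_assoc, ← mul_assoc u, cf.mul_ι hu]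
    group
  inv_mem' := by
    rintro _ ⟨a, u, hu, rfl⟩
    refine ⟨cf.ψ u⁻¹ * -a, u⁻¹, inv_mem hu, ?_⟩
    rw [mul_inv_rev, ← cf.ι_neg, cf.mul_ι (inv_mem hu)]

theorem ι_mem_H (a : F) : cf.ι a ∈ cf.H := ⟨a, 1, one_mem _, (mul_one _).symm⟩

theorem U_le_H : cf.U ≤ cf.H := fun u hu => ⟨0, u, hu, by rw [cf.ι_zero, one_mul]⟩

theorem pow_nf {u : G} (hu : u ∈ cf.U) (a : F) (n : ℕ) : ∃ b, (cf.ι a * u) ^ n = cf.ι b * u ^ n := by
  induction n with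
  | zero => exact ⟨0, by rw [pow_zero, pow_zero, cf.ι_zero, one_mul]⟩
  | succ n ih =>
    obtain ⟨b, hb⟩ := ih
    refine ⟨b + cf.ψ (u ^ n) * a, ?_⟩
    rw [pow_succ, hb, cf.ι_add, mul_assoc, ← mul_assoc (u ^ n), cf.mul_ι (pow_mem hu n), pow_succ]
    group

end U

variable [Fact p.Prime]

/-- Every element is a prime field multiple of some `ψ u`. -/
theorem exists_dec {x : F} (hx : x ≠ 0) :
    ∃ c : ZMod p, c ≠ 0 ∧ ∃ u ∈ cf.U, x = algebraMap (ZMod p) F c * cf.ψ u := by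
  obtain ⟨c, hc, hx'⟩ := cf.dec x hx
  obtain ⟨u, hu, he⟩ := cf.exists_ψ _ hx'
  refine ⟨c, hc, u, hu, ?_⟩
  rw [he, mul_div_cancel₀]
  simpa using hc

theorem conj_S {u : G} (hu : u ∈ cf.U) (c : ZMod p) :
    u * cf.S c * u⁻¹ = cf.ι (algebraMap (ZMod p) F c * cf.ψ u) := by
  rw [S, cf.conj u hu, mul_comm]

theorem ι_pow_p (a : F) : cf.ι a ^ p = 1 := by
  haveI : CharP F p := charP_of_injective_algebraMap (algebraMap (ZMod p) F).injective p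
  rw [cf.ι_pow, CharP.cast_eq_zero, zero_mul, cf.ι_zero]

theorem eq_one_of_pow_p {g : G} (hg : g ∈ cf.H) (hp : g ^ p = 1) : ∃ a, g = cf.ι a := by
  obtain ⟨a, u, hu, rfl⟩ := hg
  obtain ⟨b, hb⟩ := cf.pow_nf hu a p
  rw [hp] at hb
  have h1 := (cf.nf_unique (one_mem _) (pow_mem hu p)
    (by rw [cf.ι_zero, one_mul]; exact hb : cf.ι 0 * 1 = cf.ι b * u ^ p)).2
  have h2 : orderOf u ∣ 1 := cf.card_U ▸
    Nat.dvd_gcd (Subgroup.orderOf_dvd_natCard _ hu) (orderOf_dvd_of_pow_eq_one h1.symm)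
  exact ⟨a, by rw [orderOf_eq_one_iff.1 (Nat.dvd_one.1 h2), mul_one]⟩

theorem pow_card_Q {x : G} (hx : x ∈ cf.Q) : x ^ Nat.card cf.Q = 1 :=
  orderOf_dvd_iff_pow_eq_one.1 (Subgroup.orderOf_dvd_natCard _ hx)

theorem eq_one_of_mem_Q {a : F} (h : cf.ι a ∈ cf.Q) : a = 0 := by
  refine cf.ι_inj (Eq.trans ?_ cf.ι_zero.symm)
  rw [← orderOf_eq_one_iff, ← Nat.dvd_one]
  exact cf.Q_cop ▸ Nat.dvd_gcd (orderOf_dvd_of_pow_eq_one (cf.pow_card_Q h))
    (orderOf_dvd_of_pow_eq_one (cf.ι_pow_p a))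

theorem cast_card_Q_ne : ((Nat.card cf.Q : ℕ) : ZMod p) ≠ 0 := fun h => by
  rw [ZMod.natCast_eq_zero_iff] at h
  exact (Nat.Prime.coprime_iff_not_dvd Fact.out).1 cf.Q_cop.symm h

/-- `P U ∩ T m (P U) T (-m) = U`. -/
theorem inter {m : ZMod p} (hm : m ≠ 0) {g : G} (hg : g ∈ cf.H) (hg' : cf.τ m g ∈ cf.H) :
    g ∈ cf.U := by
  obtain ⟨α, w, hw, rfl⟩ := hg
  by_contra hne
  have hα : α ≠ 0 := fun h => hne (by rw [h, cf.ι_zero, one_mul]; exact hw)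
  have hια : cf.τ m (cf.ι α) ∈ cf.H := by
    have := mul_mem hg' (inv_mem (cf.U_le_H (cf.τ_mem (i := m) hw)))
    rwa [cf.τ_mul, mul_inv_cancel_right] at this
  -- `T m` carries `P` into `P U`, hence into `P`
  have hall : ∀ γ, ∃ δ, cf.τ m (cf.ι γ) = cf.ι δ := by
    intro γ
    refine cf.eq_one_of_pow_p ?_ ?_
    · rcases eq_or_ne γ 0 with rfl | hγ
      · rw [cf.ι_zero, cf.τ_one]; exact one_mem _
      obtain ⟨c, -, u, hu, he⟩ := cf.exists_dec (div_ne_zero hγ hα)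
      have h1 : cf.ι γ = (u * cf.ι α * u⁻¹) ^ c.val := by
        rw [cf.conj u hu, cf.ι_pow, ← map_natCast (algebraMap (ZMod p) F), ZMod.natCast_zmod_val,
          ← mul_assoc, ← he, div_mul_cancel₀ _ hα]
      have hu' := cf.U_le_H (cf.τ_mem (i := m) hu)
      have hp : ∀ (x : G) (n : ℕ), cf.τ m (x ^ n) = cf.τ m x ^ n := fun x n => by
        induction n with
        | zero => rw [pow_zero, pow_zero, cf.τ_one]
        | succ n ih => rw [pow_succ, pow_succ, cf.τ_mul, ih]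
      rw [h1, hp, cf.τ_mul, cf.τ_mul, cf.τ_inv]
      exact pow_mem (mul_mem (mul_mem hu' hια) (inv_mem hu')) _
    · rw [τ, cf.T_neg, conj_pow, cf.ι_pow_p, mul_one, mul_inv_cancel]
  have hiter : ∀ (n : ℕ) γ, ∃ δ, cf.τ ((n : ZMod p) * m) (cf.ι γ) = cf.ι δ := by
    intro n
    induction n with
    | zero => intro γ; exact ⟨γ, by rw [Nat.cast_zero, zero_mul, cf.τ_zero]⟩
    | succ n ih =>
      intro γ
      obtain ⟨δ, hδ⟩ := hall γ
      obtain ⟨ε, hε⟩ := ih δ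
      refine ⟨ε, ?_⟩
      rw [show ((n + 1 : ℕ) : ZMod p) * m = (n : ZMod p) * m + m by push_cast; ring, ← cf.τ_τ, hδ, hε]
  have hnorm : ∀ (i : ZMod p) γ, ∃ δ, cf.τ i (cf.ι γ) = cf.ι δ := fun i γ => by
    have h := hiter (i * m⁻¹).val γ
    rwa [ZMod.natCast_zmod_val, inv_mul_cancel_right₀ hm] at h
  -- `Z 1` acts on `P` as `T 1` does
  set r := Nat.card cf.Q with hr
  have hZ : ∀ (n : ℕ) γ, cf.Z 1 ^ n * cf.ι γ * (cf.Z 1 ^ n)⁻¹ = cf.τ (n : ZMod p) (cf.ι γ) := by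
    intro n
    induction n with
    | zero => intro γ; rw [pow_zero, Nat.cast_zero, cf.τ_zero, one_mul, inv_one, mul_one]
    | succ n ih =>
      intro γ
      obtain ⟨δ, hδ⟩ := hnorm 1 γ
      have h1 : cf.Z 1 * cf.ι γ * (cf.Z 1)⁻¹ = cf.τ 1 (cf.ι γ) := by
        rw [Z, τ, cf.T_neg, cf.S_neg, mul_inv_rev, inv_inv, S]
        calc cf.T 1 * (cf.ι _)⁻¹ * cf.ι γ * (cf.ι (algebraMap (ZMod p) F 1) * (cf.T 1)⁻¹)
            = cf.T 1 * ((cf.ι (algebraMap (ZMod p) F 1))⁻¹ * (cf.ι γ * cf.ι (algebraMap (ZMod p) F 1)))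
              * (cf.T 1)⁻¹ := by group
          _ = _ := by rw [cf.ι_comm γ, inv_mul_cancel_left]
      calc cf.Z 1 ^ (n + 1) * cf.ι γ * (cf.Z 1 ^ (n + 1))⁻¹
          = cf.Z 1 ^ n * (cf.Z 1 * cf.ι γ * (cf.Z 1)⁻¹) * (cf.Z 1 ^ n)⁻¹ := by rw [pow_succ]; group
        _ = cf.τ ((n + 1 : ℕ) : ZMod p) (cf.ι γ) := by
            rw [h1, hδ, ih, ← hδ, cf.τ_τ, Nat.cast_succ]
  have hfix : ∀ (i : ZMod p) γ, cf.τ i (cf.ι γ) = cf.ι γ := by
    intro i γ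
    have h1 : ∀ γ, cf.τ (r : ZMod p) (cf.ι γ) = cf.ι γ := fun γ => by
      rw [← hZ, hr, cf.pow_card_Q (cf.Z_mem 1), one_mul, inv_one, mul_one]
    have h2 : ∀ n : ℕ, cf.τ ((n : ZMod p) * r) (cf.ι γ) = cf.ι γ := by
      intro n
      induction n with
      | zero => rw [Nat.cast_zero, zero_mul, cf.τ_zero]
      | succ n ih =>
        rw [show ((n + 1 : ℕ) : ZMod p) * r = (n : ZMod p) * r + r by push_cast; ring, ← cf.τ_τ, h1,
          ih]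
    have h := h2 (i * (r : ZMod p)⁻¹).val
    rwa [ZMod.natCast_zmod_val, inv_mul_cancel_right₀ cf.cast_card_Q_ne] at h
  -- hence `T` centralizes `U`, and `Z 1` moves `U` by translations
  obtain ⟨u, hu, hu1⟩ := cf.one_lt
  have hτu : cf.τ 1 u = u := by
    refine cf.ψ_inj (cf.τ_mem hu) hu ?_
    have h1 : cf.τ 1 (u * cf.ι 1 * u⁻¹) = cf.ι (cf.ψ u * 1) := by rw [cf.conj u hu, hfix]
    rw [cf.τ_mul, cf.τ_mul, hfix, cf.τ_inv, cf.conj _ (cf.τ_mem hu), mul_one, mul_one] at h1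
    exact cf.ι_inj h1
  have hstep : cf.Z 1 * u * (cf.Z 1)⁻¹ = cf.ι (cf.ψ u - 1) * u := by
    have h1 : cf.S (-1) * u * cf.S 1 = cf.ι (cf.ψ u - 1) * u := by
      rw [S, S, map_one, mul_assoc, cf.mul_ι hu, ← mul_assoc, ← cf.ι_add, map_neg, map_one, mul_one,
        neg_add_eq_sub]
    calc cf.Z 1 * u * (cf.Z 1)⁻¹ = cf.τ 1 (cf.S (-1) * u * cf.S 1) := by
          simp only [Z, τ, cf.T_neg, cf.S_neg]
          group
      _ = _ := by rw [h1, cf.τ_mul, hfix, hτu]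
  have hit : ∀ n : ℕ, cf.Z 1 ^ n * u * (cf.Z 1 ^ n)⁻¹ = cf.ι ((n : F) * (cf.ψ u - 1)) * u := by
    intro n
    induction n with
    | zero => rw [pow_zero, one_mul, inv_one, mul_one, Nat.cast_zero, zero_mul, cf.ι_zero, one_mul]
    | succ n ih =>
      calc cf.Z 1 ^ (n + 1) * u * (cf.Z 1 ^ (n + 1))⁻¹
          = cf.Z 1 ^ n * (cf.Z 1 * u * (cf.Z 1)⁻¹) * (cf.Z 1 ^ n)⁻¹ := by rw [pow_succ]; group
        _ = (cf.Z 1 ^ n * cf.ι (cf.ψ u - 1) * (cf.Z 1 ^ n)⁻¹) * (cf.Z 1 ^ n * u * (cf.Z 1 ^ n)⁻¹) := by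
            rw [hstep]; group
        _ = _ := by
            rw [hZ, hfix, ih, ← mul_assoc, ← cf.ι_add]
            congr 2
            push_cast
            ring
  have h := hit r
  rw [hr, cf.pow_card_Q (cf.Z_mem 1), one_mul, inv_one, mul_one] at h
  have h2 := (cf.nf_unique hu hu (by rw [cf.ι_zero, one_mul]; exact h :
    cf.ι 0 * u = cf.ι ((Nat.card cf.Q : F) * (cf.ψ u - 1)) * u)).1
  have h3 : ((Nat.card cf.Q : ℕ) : F) ≠ 0 := by
    rw [← map_natCast (algebraMap (ZMod p) F)]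
    exact (map_ne_zero _).2 cf.cast_card_Q_ne
  exact hu1 (cf.eq_one_of_ψ hu (sub_eq_zero.1 ((mul_eq_zero.1 h2.symm).resolve_left h3)))

/-- `S c` does not normalize `U`. -/
theorem eq_zero_of_S_conj {c : ZMod p} {u : G} (hu : u ∈ cf.U) (hu1 : u ≠ 1)
    (h : cf.S c * u * cf.S (-c) ∈ cf.U) : c = 0 := by
  rw [S, S, mul_assoc, cf.mul_ι hu, ← mul_assoc, ← cf.ι_add, map_neg] at h
  have h1 := mul_mem h (inv_mem hu)
  rw [mul_inv_cancel_right] at h1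
  have h2 := cf.eq_one_of_ι_mem h1
  have h3 : algebraMap (ZMod p) F c * (1 - cf.ψ u) = 0 := by linear_combination h2
  rcases mul_eq_zero.1 h3 with h4 | h4
  · exact (map_eq_zero _).1 h4
  · exact absurd (cf.eq_one_of_ψ hu (sub_eq_zero.1 h4).symm) hu1

theorem eq_of_T_eq_S {n c : ZMod p} (h : cf.T n = cf.S c) : c = 0 := by
  obtain ⟨u, hu, hu1⟩ := cf.one_lt
  have h1 := cf.τ_mem (i := n) hu
  rw [τ, cf.T_neg, h, ← cf.S_neg] at h1
  exact cf.eq_zero_of_S_conj hu hu1 h1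

theorem Z_ne_one {n : ZMod p} (hn : n ≠ 0) : cf.Z n ≠ 1 := fun h => by
  rw [Z, cf.S_neg, mul_inv_eq_one] at h
  exact hn (cf.eq_of_T_eq_S h)

/-- The translates `σ i (Z n)` are distinct. -/
theorem Z_inj {i n m : ZMod p} (hm : m ≠ 0) (h : cf.σ i (cf.Z n) = cf.Z m) :
    i = 0 ∧ n = m := by
  obtain ⟨u, hu, hu1⟩ := cf.one_lt
  have hi : i = 0 := by
    by_contra hi
    -- `T (-m) S i T n = S (n + i - m)`
    have h1 : cf.S i * cf.T n = cf.T m * cf.S (n + i - m) := by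
      have h2 := congrArg (fun x => x * cf.S (n + i)) h
      simp only [σ, Z, cf.S_add, cf.S_neg] at h2
      rw [show n + i - m = -m + (n + i) by ring, cf.S_add, cf.S_add, cf.S_neg, ← mul_assoc]
      refine Eq.trans ?_ h2
      have h3 : cf.S n * cf.S i = cf.S i * cf.S n := by rw [← cf.S_add, add_comm, cf.S_add]
      calc cf.S i * cf.T n = cf.S i * cf.T n * (cf.S n)⁻¹ * (cf.S i)⁻¹ * (cf.S i * cf.S n) := by group
        _ = _ := by rw [← h3]; group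
    set w := cf.τ n u with hw
    have hwU : w ∈ cf.U := cf.τ_mem hu
    have hw1 : w ≠ 1 := fun h' => hu1 (by
      have h3 := congrArg (cf.τ (-n)) h'
      rwa [hw, cf.τ_τ, neg_add_cancel, cf.τ_zero, cf.τ_one] at h3)
    set g := cf.S i * w * cf.S (-i) with hg
    have hgH : g ∈ cf.H :=
      mul_mem (mul_mem (cf.ι_mem_H _) (cf.U_le_H hwU)) (cf.ι_mem_H _)
    refine hi (cf.eq_zero_of_S_conj hwU hw1 (cf.inter (neg_ne_zero.2 hm) hgH ?_))
    have h2 : cf.τ (-m) g = cf.S (n + i - m) * u * cf.S (-(n + i - m)) := by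
      rw [τ, hg, hw, τ, neg_neg, cf.S_neg, cf.S_neg, cf.T_neg, cf.T_neg]
      calc (cf.T m)⁻¹ * (cf.S i * (cf.T n * u * (cf.T n)⁻¹) * (cf.S i)⁻¹) * cf.T m
          = ((cf.T m)⁻¹ * (cf.S i * cf.T n)) * u * ((cf.T m)⁻¹ * (cf.S i * cf.T n))⁻¹ := by group
        _ = _ := by rw [h1, inv_mul_cancel_left]
    rw [h2]
    exact mul_mem (mul_mem (cf.ι_mem_H _) (cf.U_le_H hu)) (cf.ι_mem_H _)
  subst hi
  refine ⟨rfl, ?_⟩
  rw [cf.σ_zero] at h
  by_contra hne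
  have h2 : cf.T (n - m) = cf.S (n - m) := by
    rw [sub_eq_add_neg, add_comm, cf.T_add, cf.T_neg, cf.S_add, cf.S_neg]
    simp only [Z, cf.S_neg] at h
    rw [inv_mul_eq_iff_eq_mul, ← mul_assoc, ← h, inv_mul_cancel_right]
  exact sub_ne_zero.2 hne (cf.eq_of_T_eq_S h2)

end Config

end Cfsg.Agent.FinalField
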