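/-
Rigidity in the field configuration of Bender-Glauberman Appendix C.

* `conj_Z` : if `π T_M ρ` lies in `Q0 S` then `π` normalizes `Q0`
* `rigid` : only the prime field part of `P` normalizes `Q0` (when `q < p`)
* `eq_two` : `T 1 S (-j) T 1 ∈ P T 2 P` forces `j = 2`
-/
import Cfsg.Agent.Lib.FinalField.Config
import Cfsg.Agent.Lib.Coprime.Abelian

set_option autoImplicit false

namespace Cfsg.Agent.FinalField

open Finset

/-- An affine map of the `p`-th roots of unity has `A = 0` or `B = 0`. -/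
theorem affine_roots {k : Type*} [Field k] {p : ℕ} (hp : p.Prime) {ζ : k} (hζ : IsPrimitiveRoot ζ p)
    (hpk : (p : k) ≠ 0) {A B : k} (h : ∀ i < p, (A * ζ ^ i + B) ^ p = 1) : A = 0 ∨ B = 0 := by
  have hsum : ∀ m : ℕ, ¬ p ∣ m → ∑ i ∈ range p, (ζ ^ m) ^ i = 0 := fun m hm =>
    (hζ.pow_of_coprime m ((hp.coprime_iff_not_dvd.2 hm).symm)).geom_sum_eq_zero hp.one_lt
  have h1 : ∑ i ∈ range p, (A * ζ ^ i + B) ^ p * ζ ^ i = 0 := by
    rw [sum_congr rfl fun i hi => by rw [h i (mem_range.1 hi), one_mul]]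
    exact hζ.geom_sum_eq_zero hp.one_lt
  have h2 : ∀ i, (A * ζ ^ i + B) ^ p * ζ ^ i =
      ∑ m ∈ range (p + 1), A ^ m * B ^ (p - m) * (p.choose m : k) * (ζ ^ (m + 1)) ^ i := fun i => by
    rw [add_pow, sum_mul]
    refine sum_congr rfl fun m _ => ?_
    rw [mul_pow, ← pow_mul, ← pow_mul, show (m + 1) * i = i * m + i by ring, pow_add]
    ring
  rw [sum_congr rfl fun i _ => h2 i, sum_comm, sum_eq_single (p - 1)] at h1
  · rw [← mul_sum, show p - 1 + 1 = p from Nat.succ_pred_eq_of_pos hp.pos, hζ.pow_eq_one,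
      show p - (p - 1) = 1 by have := hp.pos; omega] at h1
    simp only [one_pow, sum_const, card_range, nsmul_eq_mul, mul_one, pow_one] at h1
    rw [Nat.choose_symm_of_eq_add (show p = (p - 1) + 1 by have := hp.pos; omega),
      Nat.choose_one_right] at h1
    rcases mul_eq_zero.1 h1 with h3 | h3
    · rcases mul_eq_zero.1 h3 with h4 | h4
      · rcases mul_eq_zero.1 h4 with h5 | h5
        · exact Or.inl (pow_eq_zero_iff (by have := hp.two_le; omega) |>.1 h5)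
        · exact Or.inr h5
      · exact absurd h4 hpk
    · exact absurd h3 hpk
  · intro m hm hne
    rw [← mul_sum, hsum, mul_zero]
    intro hd
    have := mem_range.1 hm
    obtain ⟨c, hc⟩ := hd
    rcases c with _ | _ | c
    · omega
    · omega
    · have : p * 2 ≤ p * (c + 1 + 1) := Nat.mul_le_mul_left p (by omega)
      have := hp.two_le
      omega
  · intro h'
    exact absurd (mem_range.2 (by omega)) h'

/-- A norm-one line is a point when the degree is less than `p`. -/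
theorem eq_zero_of_line {F : Type*} [Field F] {p q : ℕ} [hp : Fact p.Prime] [Algebra (ZMod p) F]
    (hq : 0 < q) (hlt : q < p) {b : F}
    (h : ∀ l : ZMod p, (1 + algebraMap (ZMod p) F l * b) ^ normExp p q = 1) : b = 0 := by
  by_contra hb0
  haveI : CharP F p := charP_of_injective_algebraMap (algebraMap (ZMod p) F).injective p
  have hA : normExp p q = ∑ i ∈ range q, p ^ i := (Nat.geomSum_eq hp.out.two_le q).symm
  set P : Polynomial F :=
    (∏ i ∈ range q, (Polynomial.C (b ^ (p ^ i)) * Polynomial.X + 1)) - 1 with hP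
  have hdeg : P.natDegree ≤ q := by
    refine (Polynomial.natDegree_sub_le _ _).trans (max_le ?_ (by simp))
    refine (Polynomial.natDegree_prod_le _ _).trans ?_
    refine (sum_le_sum (g := fun _ => 1) fun i _ => ?_).trans (by simp)
    compute_degree
  have heval : ∀ l : ZMod p, P.eval (algebraMap (ZMod p) F l) = 0 := by
    intro l
    have h' := h l
    rw [hA, ← prod_pow_eq_pow_sum] at h'
    rw [hP, Polynomial.eval_sub, Polynomial.eval_one, Polynomial.eval_prod, sub_eq_zero]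
    refine Eq.trans (prod_congr rfl fun i _ => ?_) h'
    rw [add_pow_char_pow, one_pow, mul_pow, ← map_pow (algebraMap (ZMod p) F), ZMod.pow_card_pow,
      Polynomial.eval_add, Polynomial.eval_mul, Polynomial.eval_C, Polynomial.eval_X,
      Polynomial.eval_one]
    ring
  have hP0 : P = 0 := Polynomial.eq_zero_of_natDegree_lt_card_of_eval_eq_zero P
    (f := fun l : ZMod p => algebraMap (ZMod p) F l) (algebraMap (ZMod p) F).injective heval
    (by rw [ZMod.card]; omega)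
  have hc : P.coeff q ≠ 0 := by
    rw [hP, Polynomial.coeff_sub, Polynomial.coeff_one, if_neg (by omega), sub_zero]
    have := Polynomial.coeff_prod_of_natDegree_le (s := range q)
      (fun i => Polynomial.C (b ^ (p ^ i)) * Polynomial.X + 1) 1 (fun i _ => by compute_degree)
    rw [card_range, mul_one] at this
    rw [this]
    refine prod_ne_zero_iff.2 fun i _ => ?_
    rw [Polynomial.coeff_add, Polynomial.coeff_C_mul_X, if_pos rfl, Polynomial.coeff_one,
      if_neg Nat.one_ne_zero, add_zero]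
    exact pow_ne_zero _ hb0
  exact hc (by rw [hP0, Polynomial.coeff_zero])

namespace Config

variable {G : Type*} [Group G] {F : Type*} [Field F] {p q : ℕ} [Algebra (ZMod p) F]
  (cf : Config G F p q)

/-- The `S`-submodule of `Q` generated by the `Z n`. -/
def Q0 : Subgroup G :=
  Subgroup.closure (Set.range fun x : ZMod p × ZMod p => cf.σ x.1 (cf.Z x.2))

theorem Q0_le : cf.Q0 ≤ cf.Q := (Subgroup.closure_le _).2 (by
  rintro _ ⟨x, rfl⟩
  exact cf.σ_mem (cf.Z_mem _))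

theorem σZ_mem (i n : ZMod p) : cf.σ i (cf.Z n) ∈ cf.Q0 := Subgroup.subset_closure ⟨(i, n), rfl⟩

theorem Z_mem_Q0 (n : ZMod p) : cf.Z n ∈ cf.Q0 := cf.σ_zero (cf.Z n) ▸ cf.σZ_mem 0 n

theorem σ_mem_Q0 (i : ZMod p) {x : G} (hx : x ∈ cf.Q0) : cf.σ i x ∈ cf.Q0 := by
  induction hx using Subgroup.closure_induction with
  | mem x hx =>
    obtain ⟨y, rfl⟩ := hx
    show cf.σ i (cf.σ y.1 (cf.Z y.2)) ∈ _
    rw [cf.σ_σ]
    exact cf.σZ_mem _ _
  | one => rw [σ, mul_one, ← cf.S_add, add_neg_cancel, cf.S_zero]; exact one_mem _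
  | mul x y _ _ hx hy => rw [cf.σ_mul]; exact mul_mem hx hy
  | inv x _ hx => rw [cf.σ_inv]; exact inv_mem hx

theorem ι_σ (π : F) (i : ZMod p) (x : G) :
    cf.ι π * cf.σ i x * (cf.ι π)⁻¹ = cf.σ i (cf.ι π * x * (cf.ι π)⁻¹) := by
  rw [σ, σ, cf.S_neg, S]
  generalize algebraMap (ZMod p) F i = b
  calc cf.ι π * (cf.ι b * x * (cf.ι b)⁻¹) * (cf.ι π)⁻¹
      = (cf.ι π * cf.ι b) * x * (cf.ι π * cf.ι b)⁻¹ := by group
    _ = _ := by rw [cf.ι_comm π b]; group

variable [Fact p.Prime] [Finite G]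

/-- The product over a `σ`-orbit in `Q`. -/
theorem prod_σ_eq_one {x : G} (hx : x ∈ cf.Q) (n : ZMod p) :
    letI : CommGroup cf.Q := { mul_comm := fun a b => Subtype.ext (cf.Q_comm _ a.2 _ b.2) }
    ∏ i : ZMod p, (⟨cf.σ i (x * cf.σ n x⁻¹), cf.σ_mem (mul_mem hx (cf.σ_mem (inv_mem hx)))⟩ : cf.Q)
      = 1 := by
  letI : CommGroup cf.Q := { mul_comm := fun a b => Subtype.ext (cf.Q_comm _ a.2 _ b.2) }
  have h : ∀ i : ZMod p,
      (⟨cf.σ i (x * cf.σ n x⁻¹), cf.σ_mem (mul_mem hx (cf.σ_mem (inv_mem hx)))⟩ : cf.Q) =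
      (⟨cf.σ i x, cf.σ_mem hx⟩ : cf.Q) * (⟨cf.σ (i + n) x, cf.σ_mem hx⟩ : cf.Q)⁻¹ := fun i => by
    refine Subtype.ext ?_
    show cf.σ i (x * cf.σ n x⁻¹) = cf.σ i x * (cf.σ (i + n) x)⁻¹
    rw [cf.σ_mul, cf.σ_σ, cf.σ_inv]
  rw [prod_congr rfl fun i _ => h i, prod_mul_distrib, prod_inv_distrib, mul_inv_eq_one]
  exact (Fintype.prod_equiv (Equiv.addRight n) _ _ fun i => rfl).symm

/-- An element of `Q` fixed by `σ` with trivial norm is trivial. -/
theorem eq_one_of_pow {x : G} (hx : x ∈ cf.Q) (h : x ^ p = 1) : x = 1 := by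
  rw [← orderOf_eq_one_iff, ← Nat.dvd_one]
  exact cf.Q_cop ▸ Nat.dvd_gcd (Subgroup.orderOf_dvd_natCard _ hx) (orderOf_dvd_of_pow_eq_one h)

/-- If `π T_M ρ = q₀ S e` with `q₀ ∈ Q0` then `π` normalizes `Q0` and sends `Z M` to `q₀`. -/
theorem conj_Z {π ρ : F} {M e : ZMod p} (hM : M ≠ 0) {q₀ : G} (hq : q₀ ∈ cf.Q0)
    (h : cf.ι π * cf.T M * cf.ι ρ = q₀ * cf.S e) :
    cf.ι π ∈ Subgroup.normalizer (cf.Q0 : Set G) ∧ cf.ι π * cf.Z M * (cf.ι π)⁻¹ = q₀ ∧
      π + ρ = algebraMap (ZMod p) F (e - M) := by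
  have hq' := cf.Q0_le hq
  have hκ : ∀ i, cf.ι π * (cf.Z M * cf.σ i (cf.Z M)⁻¹) * (cf.ι π)⁻¹ = q₀ * cf.σ i q₀⁻¹ := by
    intro i
    have h1 : (q₀ * cf.S e) * cf.S i * (q₀ * cf.S e)⁻¹ * cf.S (-i) = q₀ * cf.σ i q₀⁻¹ := by
      have h2 : cf.S e * cf.S i * (cf.S e)⁻¹ = cf.S i := by
        rw [← cf.S_add, add_comm, cf.S_add, mul_inv_cancel_right]
      calc _ = q₀ * (cf.S e * cf.S i * (cf.S e)⁻¹) * q₀⁻¹ * cf.S (-i) := by group
        _ = _ := by rw [h2, σ]; group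
    have h3 : cf.S M * cf.S i * (cf.S M)⁻¹ = cf.S i := by
      rw [← cf.S_add, add_comm, cf.S_add, mul_inv_cancel_right]
    have h4 : ∀ a : F, cf.ι a * cf.S i * (cf.ι a)⁻¹ = cf.S i := fun a => by
      rw [S, cf.ι_comm, mul_inv_cancel_right]
    have h5 : (cf.ι π)⁻¹ * cf.S (-i) = cf.S (-i) * (cf.ι π)⁻¹ := by
      rw [← cf.ι_neg, S, cf.ι_comm]
    rw [← h1, ← h]
    calc cf.ι π * (cf.Z M * cf.σ i (cf.Z M)⁻¹) * (cf.ι π)⁻¹
        = cf.ι π * (cf.Z M * cf.S i * (cf.Z M)⁻¹) * (cf.S (-i) * (cf.ι π)⁻¹) := by rw [σ]; group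
      _ = cf.ι π * (cf.T M * cf.S i * (cf.T M)⁻¹) * ((cf.ι π)⁻¹ * cf.S (-i)) := by
          rw [h5, cf.T_eq M]
          conv_lhs => rw [← h3]
          group
      _ = cf.ι π * (cf.T M * (cf.ι ρ * cf.S i * (cf.ι ρ)⁻¹) * (cf.T M)⁻¹) * (cf.ι π)⁻¹ * cf.S (-i) := by
          rw [h4]; group
      _ = _ := by group
  letI : CommGroup cf.Q := { mul_comm := fun a b => Subtype.ext (cf.Q_comm _ a.2 _ b.2) }
  set K := (cf.Q.comap (MulAut.conj (cf.ι π)).toMonoidHom).subgroupOf cf.Q with hK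
  have hX : (⟨cf.Z M, cf.Z_mem M⟩ : cf.Q) ∈ K := by
    have hp : (⟨cf.Z M, cf.Z_mem M⟩ : cf.Q) ^ p ∈ K := by
      have h1 : ∀ i, (⟨cf.Z M, cf.Z_mem M⟩ : cf.Q) *
          (⟨cf.σ i (cf.Z M), cf.σ_mem (cf.Z_mem M)⟩ : cf.Q)⁻¹ ∈ K := fun i => by
        show cf.ι π * (cf.Z M * (cf.σ i (cf.Z M))⁻¹) * (cf.ι π)⁻¹ ∈ cf.Q
        rw [← cf.σ_inv, hκ]
        exact mul_mem hq' (cf.σ_mem (inv_mem hq'))
      have h2 := Subgroup.prod_mem K fun i (_ : i ∈ (univ : Finset (ZMod p))) => h1 i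
      rw [prod_mul_distrib, prod_const, card_univ, ZMod.card, prod_inv_distrib] at h2
      have h3 : ∏ i : ZMod p, (⟨cf.σ i (cf.Z M), cf.σ_mem (cf.Z_mem M)⟩ : cf.Q) = 1 := by
        refine Eq.trans (prod_congr rfl fun i _ => Subtype.ext ?_) (cf.prod_σ_eq_one cf.y_mem M)
        show cf.σ i (cf.Z M) = cf.σ i (cf.y * cf.σ M cf.y⁻¹)
        rw [← cf.Z_eq]
      rwa [h3, inv_one, mul_one] at h2
    exact Coprime.mem_of_pow_mem (cf.Q_cop.coprime_dvd_left (orderOf_dvd_natCard _)) hp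
  have hq1 : cf.ι π * cf.Z M * (cf.ι π)⁻¹ ∈ cf.Q := hX
  have h6 : q₀ = cf.ι π * cf.Z M * (cf.ι π)⁻¹ ∧ π + ρ = algebraMap (ZMod p) F (e - M) := by
    have h7 : cf.ι π * cf.T M * cf.ι ρ =
        (cf.ι π * cf.Z M * (cf.ι π)⁻¹) * cf.ι (π + algebraMap (ZMod p) F M + ρ) := by
      rw [cf.ι_add, cf.ι_add, cf.T_eq]
      show _ = _ * (cf.ι π * cf.S M * cf.ι ρ)
      group
    rw [h] at h7
    have h8 : (cf.ι π * cf.Z M * (cf.ι π)⁻¹)⁻¹ * q₀ =
        cf.ι (π + algebraMap (ZMod p) F M + ρ + -algebraMap (ZMod p) F e) := by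
      rw [cf.ι_add _ (-_), cf.ι_neg, inv_mul_eq_iff_eq_mul, ← mul_assoc, ← h7]
      show q₀ = q₀ * cf.S e * (cf.S e)⁻¹
      rw [mul_inv_cancel_right]
    have h9 := cf.eq_one_of_mem_Q (h8 ▸ mul_mem (inv_mem hq1) hq')
    refine ⟨?_, by rw [map_sub]; linear_combination h9⟩
    rw [h9, cf.ι_zero, inv_mul_eq_one] at h8
    exact h8.symm
  refine ⟨Coprime.mem_normalizer_of_forall fun x hx => ?_, h6.1.symm, h6.2⟩
  have hgen : ∀ (k : ℕ) (i : ZMod p),
      cf.ι π * cf.σ i (cf.Z ((k : ZMod p) * M)) * (cf.ι π)⁻¹ ∈ cf.Q0 := by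
    intro k
    induction k with
    | zero =>
      intro i
      rw [Nat.cast_zero, zero_mul, cf.Z_zero, σ, mul_one, ← cf.S_add, add_neg_cancel, cf.S_zero,
        mul_one, mul_inv_cancel]
      exact one_mem _
    | succ k ih =>
      intro i
      rw [show ((k + 1 : ℕ) : ZMod p) * M = (k : ZMod p) * M + M by push_cast; ring, cf.Z_add,
        cf.σ_mul, cf.σ_σ, ← conj_mul, cf.ι_σ _ (i + (k : ZMod p) * M), h6.1.symm]
      exact mul_mem (ih i) (cf.σ_mem_Q0 _ hq)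
  induction hx using Subgroup.closure_induction with
  | mem x hx =>
    obtain ⟨⟨i, n⟩, rfl⟩ := hx
    have h1 := hgen (n * M⁻¹).val i
    rwa [ZMod.natCast_zmod_val, inv_mul_cancel_right₀ hM] at h1
  | one => rw [mul_one, mul_inv_cancel]; exact one_mem _
  | mul x y _ _ hx hy => rw [← conj_mul]; exact mul_mem hx hy
  | inv x _ hx => rw [← conj_inv]; exact inv_mem hx

/-- The basic equation between two normalizing elements. -/
theorem equation {c n : ZMod p} {u : G} (hu : u ∈ cf.U)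
    (hπ : cf.ι (algebraMap (ZMod p) F c * cf.ψ u) ∈ Subgroup.normalizer (cf.Q0 : Set G))
    (hc : c ≠ 0) :
    ∃ π' : F, cf.ι π' ∈ Subgroup.normalizer (cf.Q0 : Set G) ∧
      cf.ι π' * cf.Z (-c) * (cf.ι π')⁻¹ = cf.Z (-(n + c)) *
        cf.σ (-(n + c)) (cf.ι (algebraMap (ZMod p) F c * cf.ψ u) * cf.Z n *
          (cf.ι (algebraMap (ZMod p) F c * cf.ψ u))⁻¹) := by
  set π := algebraMap (ZMod p) F c * cf.ψ u with hπdef
  set m := n + c with hm
  set u₁ := cf.τ (-m) u with hu₁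
  set v := cf.τ (-n) u with hv
  have hu₁U : u₁ ∈ cf.U := cf.τ_mem hu
  have hvU : v ∈ cf.U := cf.τ_mem hu
  set π' := cf.ψ u₁ * algebraMap (ZMod p) F (-n) with hπ'
  set ρ := cf.ψ v * algebraMap (ZMod p) F m with hρ
  have key : cf.T (-m) * cf.ι π * cf.T n = cf.ι π' * cf.T (-c) * cf.ι ρ := by
    rw [hπdef, ← cf.conj_S hu]
    have h1 : cf.T (-m) * cf.S c * cf.T n = cf.S (-n) * cf.T (-c) * cf.S m := by
      have := cf.L (-m) n
      rwa [show -(-m + n) = c by rw [hm]; ring, show -m + n = -c by rw [hm]; ring, neg_neg] at this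
    have h2 : u⁻¹ * cf.T n = cf.T n * v⁻¹ := by rw [cf.mul_T_eq, cf.τ_inv, hv]
    have h3 : u₁ * cf.T (-c) = cf.T (-c) * v := by
      rw [cf.mul_T_eq, hu₁, cf.τ_τ, hv, show -(-c) + -m = -n by rw [hm]; ring]
    have h4 : u₁ * cf.S (-n) = cf.ι π' * u₁ := cf.mul_ι hu₁U _
    have h5 : v * cf.S m = cf.ι ρ * v := cf.mul_ι hvU _
    calc cf.T (-m) * (u * cf.S c * u⁻¹) * cf.T n
        = (cf.T (-m) * u) * cf.S c * (u⁻¹ * cf.T n) := by group
      _ = u₁ * (cf.T (-m) * cf.S c * cf.T n) * v⁻¹ := by rw [cf.T_mul_eq, h2, ← hu₁]; group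
      _ = (u₁ * cf.S (-n)) * cf.T (-c) * cf.S m * v⁻¹ := by rw [h1]; group
      _ = cf.ι π' * (u₁ * cf.T (-c)) * cf.S m * v⁻¹ := by rw [h4]; group
      _ = cf.ι π' * cf.T (-c) * (v * cf.S m) * v⁻¹ := by rw [h3]; group
      _ = _ := by rw [h5]; group
  set q₀ := cf.Z (-m) * cf.σ (-m) (cf.ι π * cf.Z n * (cf.ι π)⁻¹) with hq₀
  have hq : q₀ ∈ cf.Q0 :=
    mul_mem (cf.Z_mem_Q0 _) (cf.σ_mem_Q0 _ ((Subgroup.mem_normalizer_iff.1 hπ _).1 (cf.Z_mem_Q0 _)))
  have hg : cf.ι π' * cf.T (-c) * cf.ι (ρ + -π) = q₀ * cf.S (-c) := by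
    rw [cf.ι_add, ← mul_assoc, ← key, cf.ι_neg]
    have h6 : cf.S n * (cf.ι π)⁻¹ = (cf.ι π)⁻¹ * cf.S n := by rw [← cf.ι_neg, S, cf.ι_comm]
    have h7 : cf.S (-c) = cf.S (-m) * cf.S n := by rw [← cf.S_add, hm]; congr 1; ring
    rw [hq₀, h7, σ, cf.T_eq (-m), cf.T_eq n, cf.S_neg (-m)]
    calc cf.Z (-m) * cf.S (-m) * cf.ι π * (cf.Z n * cf.S n) * (cf.ι π)⁻¹
        = cf.Z (-m) * cf.S (-m) * cf.ι π * cf.Z n * (cf.S n * (cf.ι π)⁻¹) := by group
      _ = _ := by rw [h6]; group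
  obtain ⟨h1, h2, -⟩ := cf.conj_Z (neg_ne_zero.2 hc) hq hg
  exact ⟨π', h1, h2⟩

/-- Only the prime field part of `P` normalizes `Q0`. -/
theorem rigid (hq : 0 < q) (hlt : q < p) {π : F}
    (hπ : cf.ι π ∈ Subgroup.normalizer (cf.Q0 : Set G)) :
    ∃ β : ZMod p, π = algebraMap (ZMod p) F β := by
  classical
  let N := Subgroup.normalizer (cf.Q0 : Set G)
  letI : CommGroup cf.Q0 :=
    { mul_comm := fun a b => Subtype.ext (cf.Q_comm _ (cf.Q0_le a.2) _ (cf.Q0_le b.2)) }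
  let E := AddMonoid.End (Additive cf.Q0)
  let Θ : N →* E :=
    { toFun := fun g => MonoidHom.toAdditive (cf.Q0.normalizerMonoidHom g).toMonoidHom
      map_one' := AddMonoidHom.ext fun x => by simp; rfl
      map_mul' := fun a b => AddMonoidHom.ext fun x => by simp; rfl }
  have hS : ∀ c : ZMod p, cf.ι (algebraMap (ZMod p) F c) ∈ N := fun c =>
    Coprime.mem_normalizer_of_forall fun x hx => by
      have := cf.σ_mem_Q0 c hx
      rwa [σ, cf.S_neg] at this
  have hadd : ∀ a b, cf.ι a ∈ N → cf.ι b ∈ N → cf.ι (a + b) ∈ N := fun a b ha hb => by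
    rw [cf.ι_add]; exact mul_mem ha hb
  let s : Set E := Set.range fun a : {a : F // cf.ι a ∈ N} => Θ ⟨cf.ι a.1, a.2⟩
  let R := Subring.closure s
  letI : CommRing R := Subring.closureCommRingOfComm (by
    rintro _ ⟨a, rfl⟩ _ ⟨b, rfl⟩
    rw [← map_mul, ← map_mul]
    exact congrArg Θ (Subtype.ext (cf.ι_comm _ _)))
  let θ : F → R := fun a =>
    if h : cf.ι a ∈ N then ⟨Θ ⟨cf.ι a, h⟩, Subring.subset_closure ⟨⟨a, h⟩, rfl⟩⟩ else 0
  have θ_val : ∀ a (ha : cf.ι a ∈ N), (θ a : E) = Θ ⟨cf.ι a, ha⟩ := fun a ha => by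
    simp only [θ, dif_pos ha]
  have θ_add : ∀ a b, cf.ι a ∈ N → cf.ι b ∈ N → θ (a + b) = θ a * θ b := fun a b ha hb => by
    refine Subtype.ext ?_
    rw [Subring.coe_mul, θ_val _ (hadd a b ha hb), θ_val a ha, θ_val b hb, ← map_mul]
    exact congrArg Θ (Subtype.ext (cf.ι_add a b))
  have θ_zero : θ 0 = 1 := by
    have h0 : cf.ι 0 ∈ N := by rw [cf.ι_zero]; exact one_mem _
    refine Subtype.ext ?_
    rw [θ_val 0 h0, Subring.coe_one, ← map_one Θ]
    exact congrArg Θ (Subtype.ext cf.ι_zero)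
  let el : ∀ x ∈ cf.Q0, Additive cf.Q0 := fun x hx => Additive.ofMul (⟨x, hx⟩ : cf.Q0)
  have θ_el : ∀ a (ha : cf.ι a ∈ N) x (hx : x ∈ cf.Q0),
      (θ a : E) (el x hx) = el (cf.ι a * x * (cf.ι a)⁻¹)
        ((Subgroup.mem_normalizer_iff.1 ha x).1 hx) := fun a ha x hx => by
    rw [θ_val a ha]; rfl
  let z₁ : Additive cf.Q0 := el (cf.Z 1) (cf.Z_mem_Q0 1)
  let g : ℕ → R := fun k => ∑ i ∈ range k, θ (algebraMap (ZMod p) F (i : ZMod p))
  have Eadd : ∀ (a b : R) (v : Additive cf.Q0), ((a + b : R) : E) v = (a : E) v + (b : E) v :=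
    fun _ _ _ => rfl
  have Emap : ∀ (f : R) (a b : Additive cf.Q0), (f : E) (a + b) = (f : E) a + (f : E) b :=
    fun f a b => AddMonoidHom.map_add (f : E) a b
  have Eneg : ∀ (f : R) (a : Additive cf.Q0), (f : E) (-a) = -(f : E) a :=
    fun f a => AddMonoidHom.map_neg (f : E) a
  have hg : ∀ k : ℕ, (g k : E) z₁ = el (cf.Z k) (cf.Z_mem_Q0 _) := by
    intro k
    induction k with
    | zero =>
      simp only [g, range_zero, sum_empty, Subring.coe_zero]
      exact congrArg Additive.ofMul (Subtype.ext (by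
        show (1 : G) = cf.Z ((0 : ℕ) : ZMod p)
        rw [Nat.cast_zero, cf.Z_zero]))
    | succ k ih =>
      simp only [g] at ih ⊢
      rw [sum_range_succ, Eadd, ih, θ_el _ (hS _)]
      refine congrArg Additive.ofMul (Subtype.ext ?_)
      show cf.Z (k : ZMod p) * (cf.ι _ * cf.Z 1 * (cf.ι _)⁻¹) = cf.Z ((k + 1 : ℕ) : ZMod p)
      rw [Nat.cast_succ, cf.Z_add, σ, cf.S_neg]
      rfl
  have hext : ∀ x y : R, (x : E) z₁ = (y : E) z₁ → x = y := by
    intro x y h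
    refine Subtype.ext (AddMonoidHom.ext fun w => ?_)
    show (x : E) w = (y : E) w
    obtain ⟨w, rfl⟩ := Additive.ofMul.surjective w
    obtain ⟨w, hw⟩ := w
    have hcomp : ∀ (a b : R) (v : Additive cf.Q0), (a : E) ((b : E) v) = (b : E) ((a : E) v) :=
      fun a b v => congrArg (fun z : R => (z : E) v) (mul_comm a b)
    induction hw using Subgroup.closure_induction with
    | mem w hw =>
      obtain ⟨⟨i, n⟩, rfl⟩ := hw
      have e : (Additive.ofMul (⟨cf.σ i (cf.Z n), cf.σZ_mem i n⟩ : cf.Q0)) =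
          (θ (algebraMap (ZMod p) F i) : E) ((g n.val : E) z₁) := by
        rw [hg, θ_el _ (hS i)]
        refine congrArg Additive.ofMul (Subtype.ext ?_)
        show cf.σ i (cf.Z n) = cf.ι _ * cf.Z ((n.val : ℕ) : ZMod p) * (cf.ι _)⁻¹
        rw [ZMod.natCast_zmod_val, σ, cf.S_neg]
        rfl
      rw [e, hcomp, hcomp y, hcomp x (g n.val), hcomp y (g n.val), h]
    | one => exact (map_zero _).trans (map_zero _).symm
    | mul a b ha hb iha ihb =>
      have e : (Additive.ofMul (⟨a * b, mul_mem ha hb⟩ : cf.Q0)) =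
          Additive.ofMul (⟨a, ha⟩ : cf.Q0) + Additive.ofMul (⟨b, hb⟩ : cf.Q0) := rfl
      rw [e, Emap, Emap, iha, ihb]
    | inv a ha iha =>
      have e : (Additive.ofMul (⟨a⁻¹, inv_mem ha⟩ : cf.Q0)) =
          -Additive.ofMul (⟨a, ha⟩ : cf.Q0) := rfl
      rw [e, Eneg, Eneg, iha]
  haveI : Nontrivial R := ⟨⟨1, 0, fun h => by
    have h1 := congrArg (fun z : R => (z : E) z₁) h
    simp only [Subring.coe_one, Subring.coe_zero] at h1
    exact cf.Z_ne_one one_ne_zero (congrArg Subtype.val (congrArg Additive.toMul h1))⟩⟩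
  obtain ⟨M, hM⟩ := Ideal.exists_maximal R
  letI : Field (R ⧸ M) := Ideal.Quotient.field M
  set mk := Ideal.Quotient.mk M
  set χ : F → R ⧸ M := fun a => mk (θ a) with hχ
  set ζ := χ 1 with hζdef
  have χ_add : ∀ a b, cf.ι a ∈ N → cf.ι b ∈ N → χ (a + b) = χ a * χ b := fun a b ha hb => by
    simp only [χ, θ_add a b ha hb, map_mul]
  have χ_zero : χ 0 = 1 := by simp only [χ, θ_zero, map_one]
  have hN1 : cf.ι 1 ∈ N := by simpa using hS 1
  have χ_nat : ∀ (a : F), cf.ι a ∈ N → ∀ k : ℕ, cf.ι ((k : F) * a) ∈ N ∧ χ ((k : F) * a) = χ a ^ k := by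
    intro a ha k
    induction k with
    | zero =>
      rw [Nat.cast_zero, zero_mul, χ_zero, pow_zero, cf.ι_zero]
      exact ⟨one_mem _, rfl⟩
    | succ k ih =>
      rw [Nat.cast_succ, add_mul, one_mul, pow_succ]
      exact ⟨hadd _ _ ih.1 ha, by rw [χ_add _ _ ih.1 ha, ih.2]⟩
  have χ_alg : ∀ c : ZMod p, χ (algebraMap (ZMod p) F c) = ζ ^ c.val := fun c => by
    rw [← (χ_nat 1 hN1 c.val).2, mul_one, ← map_natCast (algebraMap (ZMod p) F),
      ZMod.natCast_zmod_val]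
  haveI : CharP F p := charP_of_injective_algebraMap (algebraMap (ZMod p) F).injective p
  have χ_pow : ∀ a, cf.ι a ∈ N → χ a ^ p = 1 := fun a ha => by
    rw [← (χ_nat a ha p).2, CharP.cast_eq_zero, zero_mul, χ_zero]
  -- sums of `θ`
  have hgeom : ∀ k : ℕ, (1 - θ 1) * g k = 1 - θ (algebraMap (ZMod p) F (k : ZMod p)) := by
    intro k
    induction k with
    | zero => simp [g, θ_zero]
    | succ k ih =>
      simp only [g] at ih ⊢
      rw [sum_range_succ, mul_add, ih, Nat.cast_succ, map_add, map_one, θ_add _ _ (hS _) hN1]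
      ring
  have hpR : ((Nat.card cf.Q : ℕ) : R) = 0 := by
    refine hext _ _ ?_
    rw [Subring.coe_natCast, Subring.coe_zero, AddMonoid.End.natCast_apply]
    refine congrArg Additive.ofMul (Subtype.ext ?_)
    show cf.Z 1 ^ Nat.card cf.Q = 1
    exact cf.pow_card_Q (cf.Z_mem 1)
  have hgp : g p = 0 := by
    refine hext _ _ ?_
    rw [hg, Subring.coe_zero]
    refine congrArg Additive.ofMul (Subtype.ext ?_)
    show cf.Z ((p : ℕ) : ZMod p) = 1
    rw [ZMod.natCast_self, cf.Z_zero]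
  have hpk : ((p : ℕ) : R ⧸ M) ≠ 0 := fun hp0 => by
    have hr0 : ((Nat.card cf.Q : ℕ) : R ⧸ M) = 0 := by rw [← map_natCast mk, hpR, map_zero]
    rw [CharP.cast_eq_zero_iff (R ⧸ M) (ringChar (R ⧸ M))] at hp0 hr0
    exact CharP.ringChar_ne_one (Nat.eq_one_of_dvd_coprimes cf.Q_cop hr0 hp0)
  have hζ1 : ζ ≠ 1 := fun h => hpk (by
    have h1 := congrArg mk hgp
    simp only [g, map_sum, map_zero] at h1
    rw [sum_congr rfl (g := fun _ => 1) fun i _ => by
      show χ (algebraMap (ZMod p) F (i : ZMod p)) = 1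
      rw [χ_alg, h, one_pow]] at h1
    simpa using h1)
  have hprim : IsPrimitiveRoot ζ p := by
    have h1 := orderOf_eq_prime (χ_pow 1 hN1) hζ1
    have h2 := IsPrimitiveRoot.orderOf ζ
    rwa [show orderOf ζ = p from h1] at h2
  have hinj : ∀ a b : ZMod p, χ (algebraMap (ZMod p) F a) = χ (algebraMap (ZMod p) F b) → a = b := by
    intro a b h
    rw [χ_alg, χ_alg] at h
    exact ZMod.val_injective p (hprim.pow_inj (ZMod.val_lt a) (ZMod.val_lt b) h)
  -- the dichotomy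
  have dich : ∀ (c : ZMod p) (u : G), c ≠ 0 → u ∈ cf.U →
      cf.ι (algebraMap (ZMod p) F c * cf.ψ u) ∈ N →
      χ (algebraMap (ZMod p) F c * cf.ψ u) = 1 ∨
        χ (algebraMap (ZMod p) F c * cf.ψ u) = χ (algebraMap (ZMod p) F c) := by
    intro c u hc hu hN
    set x := χ (algebraMap (ZMod p) F c * cf.ψ u) with hx
    set C := χ (algebraMap (ZMod p) F c) with hC
    set D := 1 - χ (algebraMap (ZMod p) F (-c)) with hD
    have hmul : ∀ a b : ZMod p, χ (algebraMap (ZMod p) F (a + b)) =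
        χ (algebraMap (ZMod p) F a) * χ (algebraMap (ZMod p) F b) := fun a b => by
      rw [map_add, χ_add _ _ (hS a) (hS b)]
    have hone : χ (algebraMap (ZMod p) F 0) = 1 := by rw [map_zero, χ_zero]
    have hD0 : D ≠ 0 := fun h => hc (neg_eq_zero.1 (hinj _ _ ((sub_eq_zero.1 h).symm.trans hone.symm)))
    have key : ∀ n : ZMod p,
        (((C - x) * χ (algebraMap (ZMod p) F n) + (x - 1)) / D) ^ p = 1 := by
      intro n
      obtain ⟨π', hπ', he⟩ := cf.equation (n := n) hu hN hc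
      set m := n + c with hm
      have h1 : θ π' * g (-c).val = g (-m).val +
          θ (algebraMap (ZMod p) F (-m)) * (θ (algebraMap (ZMod p) F c * cf.ψ u) * g n.val) := by
        refine hext _ _ ?_
        rw [Subring.coe_mul, Subring.coe_add, Subring.coe_mul, Subring.coe_mul]
        show (θ π' : E) ((g (-c).val : E) z₁) = (g (-m).val : E) z₁ +
          (θ (algebraMap (ZMod p) F (-m)) : E) ((θ _ : E) ((g n.val : E) z₁))
        rw [hg, hg, hg, θ_el _ hπ', θ_el _ hN, θ_el _ (hS _)]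
        refine congrArg Additive.ofMul (Subtype.ext ?_)
        show cf.ι π' * cf.Z (((-c).val : ℕ) : ZMod p) * (cf.ι π')⁻¹ =
          cf.Z (((-m).val : ℕ) : ZMod p) * (cf.ι (algebraMap (ZMod p) F (-m)) *
            (cf.ι _ * cf.Z ((n.val : ℕ) : ZMod p) * (cf.ι _)⁻¹) *
              (cf.ι (algebraMap (ZMod p) F (-m)))⁻¹)
        rw [ZMod.natCast_zmod_val, ZMod.natCast_zmod_val, ZMod.natCast_zmod_val, he, σ, cf.S_neg (-m)]
        rfl
      have hgk : ∀ a : ZMod p, (1 - ζ) * mk (g a.val) = 1 - χ (algebraMap (ZMod p) F a) := fun a => by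
        have := congrArg mk (hgeom a.val)
        rwa [map_mul, map_sub, map_sub, map_one, ZMod.natCast_zmod_val] at this
      have h2 := congrArg (fun z => (1 - ζ) * mk z) h1
      simp only [map_add, map_mul] at h2
      have hmn : χ (algebraMap (ZMod p) F m) = χ (algebraMap (ZMod p) F n) * C := hmul n c
      have hmm : χ (algebraMap (ZMod p) F m) * χ (algebraMap (ZMod p) F (-m)) = 1 := by
        rw [← hmul, add_neg_cancel, hone]
      have e1 := hgk (-c)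
      have e2 := hgk (-m)
      have e3 := hgk n
      have h3 : χ π' * D = (1 - χ (algebraMap (ZMod p) F (-m))) +
          χ (algebraMap (ZMod p) F (-m)) * (x * (1 - χ (algebraMap (ZMod p) F n))) := by
        rw [hD, ← e1, ← e2, ← e3, hx]
        simp only [χ] at h2 ⊢
        linear_combination h2
      have h4 : ((C - x) * χ (algebraMap (ZMod p) F n) + (x - 1)) / D =
          χ (algebraMap (ZMod p) F m) * χ π' := by
        rw [div_eq_iff hD0, mul_assoc, h3]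
        linear_combination (x * (χ (algebraMap (ZMod p) F n) - 1) + 1) * hmm + (-1 : R ⧸ M) * hmn
      rw [h4, mul_pow, χ_pow _ (hS m), χ_pow _ hπ', one_mul]
    have h5 : ∀ i < p, ((C - x) / D * ζ ^ i + (x - 1) / D) ^ p = 1 := fun i hi => by
      have h6 := key (i : ZMod p)
      rw [χ_alg, ZMod.val_natCast, Nat.mod_eq_of_lt hi] at h6
      rwa [div_mul_eq_mul_div, ← add_div]
    rcases affine_roots Fact.out hprim hpk h5 with h7 | h7
    · rw [div_eq_zero_iff, or_iff_left hD0, sub_eq_zero] at h7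
      exact Or.inr h7.symm
    · rw [div_eq_zero_iff, or_iff_left hD0, sub_eq_zero] at h7
      exact Or.inl h7
  obtain ⟨i, hi, he⟩ := hprim.eq_pow_of_pow_eq_one (χ_pow π hπ)
  refine ⟨(i : ZMod p), ?_⟩
  set v := π + algebraMap (ZMod p) F (-(i : ZMod p)) with hv
  have hvN : cf.ι v ∈ N := hadd _ _ hπ (hS _)
  have hχv : χ v = 1 := by
    rw [hv, χ_add _ _ hπ (hS _), ← he,
      show ζ ^ i = χ (algebraMap (ZMod p) F (i : ZMod p)) by
        rw [χ_alg, ZMod.val_natCast, Nat.mod_eq_of_lt hi],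
      ← χ_add _ _ (hS _) (hS _), ← map_add, add_neg_cancel, map_zero, χ_zero]
  by_contra hne
  have hv0 : v ≠ 0 := fun h => hne (by
    rw [hv, map_neg, add_neg_eq_zero] at h
    exact h)
  have hnr : ∀ l : ZMod p, 1 + algebraMap (ZMod p) F l * v ≠ 0 := by
    intro l h
    rcases eq_or_ne l 0 with rfl | hl
    · rw [map_zero, zero_mul, add_zero] at h; exact one_ne_zero h
    have h1 : v = algebraMap (ZMod p) F (-l⁻¹) := by
      rw [map_neg, map_inv₀]
      have hl' : algebraMap (ZMod p) F l ≠ 0 := by simpa using hl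
      field_simp
      linear_combination h
    have h2 := hinj (-l⁻¹) 0 (by rw [← h1, hχv, map_zero, χ_zero])
    exact hv0 (by rw [h1, h2, map_zero])
  refine hv0 (eq_zero_of_line hq hlt fun l => ?_)
  obtain ⟨c, hc, u, hu, hcu⟩ := cf.exists_dec (hnr l)
  obtain ⟨hlN, hlχ⟩ := χ_nat v hvN l.val
  rw [← map_natCast (algebraMap (ZMod p) F), ZMod.natCast_zmod_val] at hlN hlχ
  have hN' : cf.ι (algebraMap (ZMod p) F c * cf.ψ u) ∈ N := hcu ▸ hadd _ _ hN1 hlN
  have hx : χ (algebraMap (ZMod p) F c * cf.ψ u) = χ (algebraMap (ZMod p) F 1) := by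
    rw [← hcu, χ_add _ _ hN1 hlN, hlχ, hχv, one_pow, mul_one, map_one]
  rcases dich c u hc hu hN' with h1 | h1
  · exact absurd (hinj 1 0 (by rw [← hx, h1, map_zero, χ_zero])) one_ne_zero
  · have h2 := hinj c 1 (h1.symm.trans hx)
    rw [hcu, h2, map_one, one_mul]
    exact cf.ψ_pow u hu

/-- `T 1 S (-j) T 1 ∈ P T 2 P` forces `j = 2`. -/
theorem eq_two (hq : 0 < q) (hlt : q < p) (hp2 : p ≠ 2) {j : ZMod p} (hj : j ≠ 0) {π ρ : F}
    (h : cf.T 1 * cf.S (-j) * cf.T 1 = cf.ι π * cf.T 2 * cf.ι ρ) : j = 2 := by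
  have h2 : (2 : ZMod p) ≠ 0 := by
    intro h2
    have h3 : ((2 : ℕ) : ZMod p) = 0 := by exact_mod_cast h2
    rw [ZMod.natCast_eq_zero_iff] at h3
    exact hp2 ((Nat.prime_dvd_prime_iff_eq Fact.out Nat.prime_two).1 h3)
  set e := 1 - j with he
  set q₀ := cf.Z 1 * cf.σ e (cf.Z 1) with hq₀
  have hLHS : cf.T 1 * cf.S (-j) * cf.T 1 = q₀ * cf.S (2 - j) := by
    rw [hq₀, σ, cf.T_eq, cf.S_neg e, show (2 : ZMod p) - j = e + 1 by rw [he]; ring, cf.S_add,
      show e = 1 + -j by rw [he]; ring, cf.S_add, cf.S_neg]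
    group
  obtain ⟨hN, hconj, -⟩ := cf.conj_Z h2 (mul_mem (cf.Z_mem_Q0 1) (cf.σZ_mem e 1)) (h.symm.trans hLHS)
  obtain ⟨β, rfl⟩ := cf.rigid hq hlt hN
  set γ := e - β - 1 with hγ
  set W := cf.Z β * cf.σ (β + 1) (cf.Z γ)⁻¹ with hW
  have hWQ : W ∈ cf.Q := mul_mem (cf.Z_mem β) (cf.σ_mem (inv_mem (cf.Z_mem γ)))
  letI : CommGroup cf.Q := { mul_comm := fun a b => Subtype.ext (cf.Q_comm _ a.2 _ b.2) }
  let Y : ZMod p → cf.Q := fun i => ⟨cf.σ i cf.y, cf.σ_mem cf.y_mem⟩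
  have hσZ : ∀ i n : ZMod p, cf.σ i (cf.Z n) = ((Y i * (Y (i + n))⁻¹ : cf.Q) : G) := fun i n => by
    rw [Subgroup.coe_mul, Subgroup.coe_inv, cf.Z_eq, cf.σ_mul, cf.σ_σ, cf.σ_inv]
  have hWeq : ∀ i : ZMod p, cf.σ i W =
      ((Y i * (Y (i + β))⁻¹ * (Y (i + β + 1) * (Y (i + e))⁻¹)⁻¹ : cf.Q) : G) := fun i => by
    rw [hW, cf.σ_mul, cf.σ_σ, cf.σ_inv, hσZ, hσZ, hγ,
      show i + (β + 1) + (e - β - 1) = i + e by ring, ← add_assoc]
    rfl
  have hEq : ∀ i : ZMod p, Y (i + β) * (Y (i + β + 2))⁻¹ =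
      Y i * (Y (i + 1))⁻¹ * (Y (i + e) * (Y (i + e + 1))⁻¹) := fun i => by
    refine Subtype.ext ?_
    have h1 := congrArg (cf.σ i) hconj
    have h3 : cf.ι (algebraMap (ZMod p) F β) * cf.Z 2 * (cf.ι (algebraMap (ZMod p) F β))⁻¹ =
        cf.σ β (cf.Z 2) := by rw [σ, cf.S_neg]; rfl
    rw [h3, cf.σ_σ, cf.σ_mul, cf.σ_σ, hσZ, hσZ, hσZ] at h1
    exact h1
  have hfix : ∀ i : ZMod p, cf.σ (i + 1) W = cf.σ i W := fun i => by
    rw [hWeq, hWeq]
    refine congrArg Subtype.val ?_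
    have key : ∀ a b c d u v w : cf.Q, b * c⁻¹ = a * d⁻¹ * (u * v⁻¹) →
        d * w⁻¹ * (c * v⁻¹)⁻¹ = a * b⁻¹ * (w * u⁻¹)⁻¹ := by
      intro a b c d u v w hh
      have h4 : b = a * d⁻¹ * (u * v⁻¹) * c := by rw [← hh, inv_mul_cancel_right]
      rw [h4]
      apply Additive.ofMul.injective
      simp only [ofMul_mul, ofMul_inv]
      abel
    have := key _ _ _ _ _ _ (Y (i + β + 1)) (hEq i)
    rw [show i + β + 2 = i + 1 + β + 1 by ring, show i + β + 1 = i + 1 + β by ring,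
      show i + e + 1 = i + 1 + e by ring] at this
    rw [show i + β + 1 = i + 1 + β by ring]
    exact this
  have hall : ∀ k : ℕ, cf.σ (k : ZMod p) W = W := fun k => by
    induction k with
    | zero => rw [Nat.cast_zero, cf.σ_zero]
    | succ k ih => rw [Nat.cast_succ, hfix, ih]
  have hW1 : W = 1 := by
    refine cf.eq_one_of_pow hWQ ?_
    have h1 : ∏ i : ZMod p, (⟨cf.σ i W, cf.σ_mem hWQ⟩ : cf.Q) = 1 := by
      have hN : ∀ (k n : ZMod p), ∏ i : ZMod p, (Y (i + k) * (Y (i + n))⁻¹) = 1 := fun k n => by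
        rw [prod_mul_distrib, prod_inv_distrib, mul_inv_eq_one]
        exact (Fintype.prod_equiv (Equiv.addRight k) _ Y fun i => rfl).trans
          (Fintype.prod_equiv (Equiv.addRight n) (fun i => Y (i + n)) Y fun i => rfl).symm
      rw [prod_congr rfl fun i _ => (Subtype.ext (hWeq i) : (⟨cf.σ i W, _⟩ : cf.Q) = _)]
      rw [prod_mul_distrib, prod_inv_distrib]
      have h5 := hN 0 β
      simp only [add_zero] at h5
      have h6 := hN (β + 1) e
      simp only [← add_assoc] at h6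
      rw [h5, h6, inv_one, mul_one]
    rw [prod_congr rfl (g := fun _ => (⟨W, hWQ⟩ : cf.Q)) fun i _ => Subtype.ext (by
      show cf.σ i W = W
      rw [← ZMod.natCast_zmod_val i, hall]), prod_const, card_univ, ZMod.card] at h1
    exact congrArg Subtype.val h1
  rw [hW, cf.σ_inv, mul_inv_eq_one] at hW1
  rcases eq_or_ne β 0 with hβ | hβ
  · exfalso
    rw [hβ, cf.Z_zero, zero_add] at hW1
    rcases eq_or_ne γ 0 with hγ0 | hγ0
    · exact hj (by rw [hγ, hβ, he] at hγ0; linear_combination -hγ0)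
    · refine cf.Z_ne_one hγ0 ?_
      have h4 := congrArg (cf.σ (-1)) hW1
      rw [cf.σ_σ, neg_add_cancel, cf.σ_zero, σ, mul_one, ← cf.S_add, add_neg_cancel, cf.S_zero] at h4
      exact h4.symm
  · obtain ⟨h4, h5⟩ := cf.Z_inj hβ hW1.symm
    rw [hγ, he] at h5
    linear_combination -h5 + (-2 : ZMod p) * h4

end Config

end Cfsg.Agent.FinalField
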