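/-
The inversion property in the field configuration of Bender-Glauberman Appendix C.

* `inv_norm` : if `x` and `2 - x` have norm one, then so has `2 - x⁻¹` (when `q < p`)
-/
import Cfsg.Agent.Lib.FinalField.Rigid

set_option autoImplicit false

namespace Cfsg.Agent.FinalField.Config

variable {G : Type*} [Group G] {F : Type*} [Field F] {p q : ℕ} [Algebra (ZMod p) F]
  (cf : Config G F p q) [Fact p.Prime]

/-- `2 ψ (τ (-3) (u⁻¹ v)) - 1` has norm one if `ψ u + ψ v = 2`. -/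
theorem extend [Finite G] (hrat : ∀ c : ZMod p, algebraMap (ZMod p) F c ^ normExp p q = 1 → c = 1)
    (hq : 0 < q) (hlt : q < p) (hp2 : p ≠ 2) {u v : G} (hu : u ∈ cf.U) (hv : v ∈ cf.U)
    (h : cf.ψ u + cf.ψ v = 2) :
    (2 * cf.ψ (cf.τ (-3) (u⁻¹ * v)) - 1) ^ normExp p q = 1 := by
  have h2 : (2 : ZMod p) ≠ 0 := by
    intro h2
    have h3 : ((2 : ℕ) : ZMod p) = 0 := by exact_mod_cast h2
    rw [ZMod.natCast_eq_zero_iff] at h3
    exact hp2 ((Nat.prime_dvd_prime_iff_eq Fact.out Nat.prime_two).1 h3)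
  have h2F : (2 : F) ≠ 0 := by
    rw [← map_ofNat (algebraMap (ZMod p) F) 2]
    exact (map_ne_zero _).2 h2
  set R := u⁻¹ * v with hR
  have hRU : R ∈ cf.U := mul_mem (inv_mem hu) hv
  set R' := cf.τ (-3) R with hR'
  have hR'U : R' ∈ cf.U := cf.τ_mem hRU
  -- `S (-1) R S (-1) = u⁻¹ S (-2) v`
  have hsum : cf.S (-1) * R * cf.S (-1) = u⁻¹ * cf.S (-2) * v := by
    have e : cf.S (-2) = (u * cf.S (-1) * u⁻¹) * (v * cf.S (-1) * v⁻¹) := by
      rw [cf.conj_S hu, cf.conj_S hv, ← cf.ι_add, S]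
      congr 1
      rw [map_neg, map_neg, map_ofNat, map_one]
      linear_combination h
    rw [e, hR]
    group
  -- multiply by `T (-2)` and `T 4`
  have hl : cf.T (-2) * (cf.S (-1) * R * cf.S (-1)) * cf.T 4 =
      cf.S (-3) * (cf.T 1 * (cf.S 2 * R' * cf.S (-4)) * cf.T 1) * cf.S 3 := by
    have l1 := cf.L (-2) 3
    rw [show -((-2 : ZMod p) + 3) = -1 by norm_num, show (-2 : ZMod p) + 3 = 1 by norm_num,
      neg_neg] at l1
    have l2 := cf.L (-3) 4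
    rw [show -((-3 : ZMod p) + 4) = -1 by norm_num, show (-3 : ZMod p) + 4 = 1 by norm_num,
      neg_neg] at l2
    calc cf.T (-2) * (cf.S (-1) * R * cf.S (-1)) * cf.T 4
        = (cf.T (-2) * cf.S (-1) * cf.T 3) * R' * (cf.T (-3) * cf.S (-1) * cf.T 4) := by
          rw [hR', τ, neg_neg, cf.T_neg 3]
          group
      _ = _ := by rw [l1, l2]; group
  have hr : cf.T (-2) * (u⁻¹ * cf.S (-2) * v) * cf.T 4 =
      cf.τ (-2) u⁻¹ * (cf.S (-4) * cf.T 2 * cf.S 2) * cf.τ (-4) v := by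
    have l := cf.L (-2) 4
    rw [show -((-2 : ZMod p) + 4) = -2 by norm_num, show (-2 : ZMod p) + 4 = 2 by norm_num,
      neg_neg] at l
    calc cf.T (-2) * (u⁻¹ * cf.S (-2) * v) * cf.T 4
        = (cf.T (-2) * u⁻¹) * cf.S (-2) * (v * cf.T 4) := by group
      _ = cf.τ (-2) u⁻¹ * (cf.T (-2) * cf.S (-2) * cf.T 4) * cf.τ (-4) v := by
          rw [cf.T_mul_eq, cf.mul_T_eq 4]; group
      _ = _ := by rw [l]
  rw [hsum] at hl
  have heq := hl.symm.trans hr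
  -- the middle
  set α : F := -2 + 4 * cf.ψ R' with hα
  have hmid : cf.S 2 * R' * cf.S (-4) = cf.ι (-α) * R' := by
    rw [S, S, mul_assoc, cf.mul_ι hR'U, ← mul_assoc, ← cf.ι_add]
    congr 2
    rw [hα, map_neg, map_ofNat, map_ofNat]
    ring
  have hα0 : α ≠ 0 := by
    intro h0
    have h1 : cf.ψ R' = algebraMap (ZMod p) F (2⁻¹) := by
      rw [map_inv₀, map_ofNat]
      refine eq_inv_of_mul_eq_one_left (mul_left_cancel₀ h2F ?_)
      linear_combination h0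
    have h3 := hrat _ (h1 ▸ cf.ψ_pow R' hR'U)
    rw [inv_eq_one] at h3
    exact one_ne_zero (α := ZMod p) (by linear_combination h3)
  obtain ⟨j, hj, x, hx, hαx⟩ := cf.exists_dec hα0
  have hαS : cf.ι (-α) = x * cf.S (-j) * x⁻¹ := by
    rw [cf.conj_S hx, hαx, map_neg, neg_mul]
  set a := cf.τ 1 x⁻¹ with ha
  set b := cf.τ (-2) u⁻¹ with hb
  set c := cf.τ (-4) v with hc
  set d := cf.τ (-1) (R'⁻¹ * x) with hd
  have haU : a ∈ cf.U := cf.τ_mem (inv_mem hx)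
  have hbU : b ∈ cf.U := cf.τ_mem (inv_mem hu)
  have hcU : c ∈ cf.U := cf.τ_mem hv
  have hdU : d ∈ cf.U := cf.τ_mem (mul_mem (inv_mem hR'U) hx)
  have hstart : cf.T 1 * cf.S (-j) * cf.T 1 =
      (a * cf.S 3 * b * cf.S (-4)) * cf.T 2 * (cf.S 2 * c * cf.S (-3) * d) := by
    have e1 : cf.T 1 * (cf.S 2 * R' * cf.S (-4)) * cf.T 1 =
        a⁻¹ * (cf.T 1 * cf.S (-j) * cf.T 1) * d⁻¹ := by
      rw [hmid, hαS, ha, hd, ← cf.τ_inv, ← cf.τ_inv, inv_inv, mul_inv_rev, inv_inv]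
      calc cf.T 1 * (x * cf.S (-j) * x⁻¹ * R') * cf.T 1
          = (cf.T 1 * x) * cf.S (-j) * ((x⁻¹ * R') * cf.T 1) := by group
        _ = _ := by rw [cf.T_mul_eq 1 x, cf.mul_T_eq 1 (x⁻¹ * R')]; group
    rw [e1] at heq
    calc cf.T 1 * cf.S (-j) * cf.T 1
        = a * (cf.S (-3))⁻¹ * (cf.S (-3) * (a⁻¹ * (cf.T 1 * cf.S (-j) * cf.T 1) * d⁻¹) * cf.S 3) *
            (cf.S 3)⁻¹ * d := by group
      _ = _ := by rw [heq, ← cf.S_neg, ← cf.S_neg, neg_neg]; group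
  -- normal form
  set w := cf.τ (-2) (a * b) with hw
  have hwU : w ∈ cf.U := cf.τ_mem (mul_mem haU hbU)
  have hwcd : w * (c * d) = 1 := by
    have hR4 : cf.τ (-1) R' = cf.τ (-4) R := by
      rw [hR', cf.τ_τ, show (-1 : ZMod p) + -3 = -4 by norm_num]
    rw [hw, hd, ha, hb, hc, cf.τ_mul, cf.τ_mul, cf.τ_τ, cf.τ_τ, cf.τ_inv (-1) R', hR4, hR,
      show (-2 : ZMod p) + 1 = -1 by norm_num, show (-2 : ZMod p) + -2 = -4 by norm_num, cf.τ_mul,
      cf.τ_inv, cf.τ_inv]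
    group
  obtain ⟨π, ρ, hform⟩ : ∃ π ρ, cf.T 1 * cf.S (-j) * cf.T 1 = cf.ι π * cf.T 2 * cf.ι ρ := by
    refine ⟨cf.ψ a * 3 + cf.ψ (a * b) * -4, cf.ψ w * (2 + cf.ψ c * -3), ?_⟩
    rw [hstart]
    have e1 : a * cf.S 3 * b * cf.S (-4) = cf.ι (cf.ψ a * 3 + cf.ψ (a * b) * -4) * (a * b) := by
      rw [S, S, map_neg, map_ofNat, map_ofNat, cf.mul_ι haU, mul_assoc (cf.ι _) a b,
        mul_assoc (cf.ι _) (a * b), cf.mul_ι (mul_mem haU hbU), ← mul_assoc, ← cf.ι_add]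
    have e2 : cf.S 2 * c * cf.S (-3) * d = cf.ι (2 + cf.ψ c * -3) * (c * d) := by
      rw [S, S, map_neg, map_ofNat, map_ofNat, mul_assoc (cf.ι _) c, cf.mul_ι hcU, ← mul_assoc,
        ← cf.ι_add, mul_assoc]
    rw [e1, e2]
    calc cf.ι _ * (a * b) * cf.T 2 * (cf.ι (2 + cf.ψ c * -3) * (c * d))
        = cf.ι (cf.ψ a * 3 + cf.ψ (a * b) * -4) * ((a * b) * cf.T 2) *
            cf.ι (2 + cf.ψ c * -3) * (c * d) := by group
      _ = cf.ι (cf.ψ a * 3 + cf.ψ (a * b) * -4) * cf.T 2 * (w * cf.ι (2 + cf.ψ c * -3)) * (c * d) := by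
          rw [cf.mul_T_eq, ← hw]; group
      _ = _ := by rw [cf.mul_ι hwU]; simp only [mul_assoc]; rw [hwcd, mul_one]
  have hj2 := cf.eq_two hq hlt hp2 hj hform
  rw [hj2, map_ofNat, hα] at hαx
  have : 2 * cf.ψ R' - 1 = cf.ψ x := mul_left_cancel₀ h2F (by linear_combination hαx)
  rw [this]
  exact cf.ψ_pow x hx

include cf in
/-- If `x` and `2 - x` have norm one then so has `2 - x⁻¹`. -/
theorem inv_norm [Finite G] [Finite F]
    (hrat : ∀ c : ZMod p, algebraMap (ZMod p) F c ^ normExp p q = 1 → c = 1)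
    (hq : 0 < q) (hlt : q < p) (hp2 : p ≠ 2) {x : F} (hx : x ^ normExp p q = 1)
    (hx' : (2 - x) ^ normExp p q = 1) : (2 - x⁻¹) ^ normExp p q = 1 := by
  have h2F : (2 : F) ≠ 0 := by
    rw [← map_ofNat (algebraMap (ZMod p) F) 2]
    refine (map_ne_zero _).2 ?_
    intro h2
    have h3 : ((2 : ℕ) : ZMod p) = 0 := by exact_mod_cast h2
    rw [ZMod.natCast_eq_zero_iff] at h3
    exact hp2 ((Nat.prime_dvd_prime_iff_eq Fact.out Nat.prime_two).1 h3)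
  let E := {x : F // x ^ normExp p q = 1 ∧ (2 - x) ^ normExp p q = 1}
  have hU : ∀ e : E, ∃ u ∈ cf.U, ∃ v ∈ cf.U, cf.ψ u = e.1 ∧ cf.ψ v = 2 - e.1 := fun e => by
    obtain ⟨u, hu, hue⟩ := cf.exists_ψ _ e.2.1
    obtain ⟨v, hv, hve⟩ := cf.exists_ψ _ e.2.2
    exact ⟨u, hu, v, hv, hue, hve⟩
  choose u hu v hv hue hve using hU
  let r : E → G := fun e => cf.τ (-3) ((u e)⁻¹ * v e)
  have hrU : ∀ e, r e ∈ cf.U := fun e => cf.τ_mem (mul_mem (inv_mem (hu e)) (hv e))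
  have hM : ∀ e, ((cf.ψ (r e))⁻¹ ^ normExp p q = 1) ∧
      ((2 - (cf.ψ (r e))⁻¹) ^ normExp p q = 1) := fun e => by
    have hr1 := cf.ψ_pow _ (hrU e)
    have hr0 := cf.ψ_ne _ (hrU e)
    refine ⟨by rw [inv_pow, hr1, inv_one], ?_⟩
    have h := cf.extend hrat hq hlt hp2 (hu e) (hv e) (by rw [hue, hve]; ring)
    rw [show 2 - (cf.ψ (r e))⁻¹ = (2 * cf.ψ (r e) - 1) / cf.ψ (r e) by field_simp, div_pow, hr1,
      div_one]
    exact h
  let M : E → E := fun e => ⟨(cf.ψ (r e))⁻¹, hM e⟩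
  have hψw : ∀ e, cf.ψ ((u e)⁻¹ * v e) = e.1⁻¹ * (2 - e.1) := fun e => by
    rw [cf.ψ_mul _ (inv_mem (hu e)) _ (hv e), cf.ψ_inv (hu e), hue, hve]
  have hne : ∀ e : E, e.1 ≠ 0 := fun e => hue e ▸ cf.ψ_ne _ (hu e)
  have hinj : Function.Injective M := by
    intro e e' h
    have h1 := cf.ψ_inj (hrU e) (hrU e') (inv_injective (congrArg Subtype.val h))
    have h2 := congrArg (fun g => cf.ψ (cf.τ 3 g)) h1
    simp only [r, cf.τ_τ, add_neg_cancel, cf.τ_zero, hψw] at h2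
    have hne1 := hne e
    have hne2 := hne e'
    field_simp at h2
    exact Subtype.ext (mul_left_cancel₀ h2F (by linear_combination -h2))
  obtain ⟨e, he⟩ := (Finite.injective_iff_surjective.1 hinj) ⟨x, hx, hx'⟩
  let e' : E := ⟨2 - e.1, e.2.2, by rw [sub_sub_cancel]; exact e.2.1⟩
  have hr' : r e' = (r e)⁻¹ := by
    refine Eq.trans (congrArg (cf.τ (-3)) ?_) (cf.τ_inv _ _)
    refine cf.ψ_inj (mul_mem (inv_mem (hu e')) (hv e')) (inv_mem (mul_mem (inv_mem (hu e)) (hv e))) ?_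
    rw [hψw, cf.ψ_inv (mul_mem (inv_mem (hu e)) (hv e)), hψw, sub_sub_cancel, mul_inv_rev, inv_inv]
  have h := (M e').2.2
  have hxe : x = (cf.ψ (r e))⁻¹ := (congrArg Subtype.val he).symm
  show (2 - x⁻¹) ^ normExp p q = 1
  change (2 - (cf.ψ (r e'))⁻¹) ^ normExp p q = 1 at h
  rw [hr', cf.ψ_inv (hrU e), ← hxe] at h
  exact h

end Cfsg.Agent.FinalField.Config
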