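/-
Two norm-one elements with sum two (Bender-Glauberman Appendix C).

* `sum_count_bound` : `(Q N - A ^ 2) ^ 2 ≤ Q ^ 3` for a multiplicatively closed set
* `exists_of_cubic` : the case of degree three
* `two_le_ncard` : two elements `a` with `a`, `2 - a` of norm one
-/
import Mathlib
import Cfsg.Agent.EqLemmas

set_option autoImplicit false

namespace Cfsg.Agent.FinalField

open Finset ComplexConjugate

section Bound

variable {F : Type*} [Field F] [Fintype F] [DecidableEq F]

/-- A primitive additive character with complex values. -/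
theorem exists_primitive_char : ∃ ψ : AddChar F ℂ, ψ.IsPrimitive := by
  obtain ⟨p, hp⟩ := CharP.exists F
  haveI hpf : Fact p.Prime := ⟨CharP.char_is_prime F p⟩
  letI : Algebra (ZMod p) F := ZMod.algebra _ _
  set ψ' : AddChar F ℂ :=
    (ZMod.stdAddChar (N := p)).compAddMonoidHom (Algebra.trace (ZMod p) F).toAddMonoidHom
  refine ⟨ψ', AddChar.IsPrimitive.of_ne_one ?_⟩
  have hp2 : ringChar F = p := ringChar.eq F p
  obtain ⟨a, ha⟩ : ∃ a : F, Algebra.trace (ZMod p) F a ≠ 0 := by
    by_contra h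
    push Not at h
    exact Algebra.trace_ne_zero (ZMod p) F (LinearMap.ext fun x => h x)
  refine AddChar.ne_one_iff.2 ⟨a, fun h => ha ?_⟩
  exact ZMod.injective_stdAddChar (h.trans (AddChar.map_zero_eq_one _).symm)

/-- `(Q N - A ^ 2) ^ 2 ≤ Q ^ 3`. -/
theorem sum_count_bound (U : Finset F) (hne : U.Nonempty) (h0 : (0 : F) ∉ U)
    (hmul : ∀ u ∈ U, ∀ v ∈ U, u * v ∈ U) (h2 : (2 : F) ≠ 0) :
    ((Fintype.card F : ℝ) * ((U.filter fun u => 2 - u ∈ U).card : ℝ) - (U.card : ℝ) ^ 2) ^ 2
      ≤ (Fintype.card F : ℝ) ^ 3 := by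
  obtain ⟨ψ, hψ⟩ := exists_primitive_char (F := F)
  set Q := Fintype.card F with hQ
  set A := U.card with hA
  set N := (U.filter fun u => 2 - u ∈ U).card with hN
  set S : F → ℂ := fun ξ => ∑ u ∈ U, ψ (ξ * u) with hS
  have hApos : (0 : ℝ) < A := by exact_mod_cast hne.card_pos
  have horth : ∀ b : F, (∑ ξ : F, ψ (ξ * b)) = if b = 0 then (Q : ℂ) else 0 := fun b => by
    rw [AddChar.sum_mulShift b hψ, hQ]
    split <;> simp
  have hvne : ∀ v ∈ U, v ≠ 0 := fun v hv h => h0 (h ▸ hv)
  have himage : ∀ v ∈ U, U.image (v * ·) = U := fun v hv =>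
    eq_of_subset_of_card_le (fun x hx => by
      obtain ⟨u, hu, rfl⟩ := mem_image.1 hx
      exact hmul v hv u hu)
      (card_image_of_injective _ (mul_right_injective₀ (hvne v hv))).ge
  have hshift : ∀ ξ : F, ∀ v ∈ U, S (ξ * v) = S ξ := by
    intro ξ v hv
    simp only [hS]
    conv_rhs => rw [← himage v hv, sum_image (mul_right_injective₀ (hvne v hv)).injOn]
    exact sum_congr rfl fun u _ => by rw [mul_assoc]
  have hconj : ∀ ξ : F, conj (S ξ) = S (-ξ) := fun ξ => by
    simp only [hS, map_sum]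
    exact sum_congr rfl fun u _ => by rw [neg_mul, AddChar.map_neg_eq_conj]
  -- Parseval
  have hpars : (∑ ξ : F, Complex.normSq (S ξ)) = (Q : ℝ) * A := by
    refine Complex.ofReal_injective ?_
    push_cast
    calc (∑ ξ : F, (Complex.normSq (S ξ) : ℂ)) = ∑ ξ : F, S ξ * S (-ξ) :=
          sum_congr rfl fun ξ _ => by rw [← Complex.mul_conj, hconj]
      _ = ∑ ξ : F, ∑ u ∈ U, ∑ v ∈ U, ψ (ξ * (u - v)) := by
          refine sum_congr rfl fun ξ _ => ?_
          simp only [hS, sum_mul_sum]
          exact sum_congr rfl fun u _ => sum_congr rfl fun v _ => by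
            rw [← AddChar.map_add_eq_mul]; ring_nf
      _ = ∑ u ∈ U, ∑ v ∈ U, if u - v = 0 then (Q : ℂ) else 0 := by
          rw [sum_comm]
          refine sum_congr rfl fun u _ => ?_
          rw [sum_comm]
          exact sum_congr rfl fun v _ => horth _
      _ = (Q : ℂ) * A := by
          rw [sum_congr rfl fun u hu => by
            simp only [sub_eq_zero, sum_ite_eq, if_pos hu]
            rfl]
          rw [sum_const, nsmul_eq_mul, mul_comm, hA]
  -- the counting sum
  have hcount : (∑ ξ : F, S ξ * S ξ * ψ (-2 * ξ)) = (Q : ℂ) * N := by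
    calc (∑ ξ : F, S ξ * S ξ * ψ (-2 * ξ))
        = ∑ ξ : F, ∑ u ∈ U, ∑ v ∈ U, ψ (ξ * (u + v - 2)) := by
          refine sum_congr rfl fun ξ _ => ?_
          simp only [hS, sum_mul_sum]
          simp only [sum_mul]
          exact sum_congr rfl fun u _ => sum_congr rfl fun v _ => by
            rw [← AddChar.map_add_eq_mul, ← AddChar.map_add_eq_mul]; ring_nf
      _ = ∑ u ∈ U, ∑ v ∈ U, if u + v - 2 = 0 then (Q : ℂ) else 0 := by
          rw [sum_comm]
          refine sum_congr rfl fun u _ => ?_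
          rw [sum_comm]
          exact sum_congr rfl fun v _ => horth _
      _ = ∑ u ∈ U, if 2 - u ∈ U then (Q : ℂ) else 0 := by
          refine sum_congr rfl fun u _ => ?_
          rw [← sum_ite_eq U (2 - u) fun _ => (Q : ℂ)]
          refine sum_congr rfl fun v _ => if_congr ?_ rfl rfl
          rw [sub_eq_zero]
          exact ⟨fun h => by rw [← h]; ring, fun h => by rw [← h]; ring⟩
      _ = (Q : ℂ) * N := by
          rw [← sum_filter, sum_const, nsmul_eq_mul, mul_comm, hN]
  have hS0 : S 0 = A := by simp [hS, hA]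
  set T := ∑ ξ ∈ univ.erase (0 : F), S ξ * S ξ * ψ (-2 * ξ) with hT
  have hT' : T = (Q : ℂ) * N - (A : ℂ) ^ 2 := by
    rw [hT, ← hcount, ← sum_erase_add univ _ (mem_univ (0 : F)), hS0, mul_zero,
      AddChar.map_zero_eq_one]
    ring
  -- the average over `U`
  have havg : (A : ℂ) * T = ∑ ξ ∈ univ.erase (0 : F), S ξ * S ξ * S (-2 * ξ) := by
    have h1 : ∀ v ∈ U, T = ∑ ξ ∈ univ.erase (0 : F), S ξ * S ξ * ψ (-2 * ξ * v) := fun v hv => by
      rw [hT]
      refine (sum_bij (fun ξ _ => ξ * v) (fun ξ hξ => ?_) (fun a _ b _ h =>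
        mul_right_cancel₀ (hvne v hv) h) (fun b hb => ⟨b / v, ?_, div_mul_cancel₀ b (hvne v hv)⟩)
        fun ξ hξ => ?_).symm
      · exact mem_erase.2 ⟨mul_ne_zero (mem_erase.1 hξ).1 (hvne v hv), mem_univ _⟩
      · exact mem_erase.2 ⟨div_ne_zero (mem_erase.1 hb).1 (hvne v hv), mem_univ _⟩
      · rw [hshift ξ v hv, mul_assoc (-2 : F)]
    calc (A : ℂ) * T = ∑ v ∈ U, T := by rw [sum_const, nsmul_eq_mul, hA]
      _ = ∑ v ∈ U, ∑ ξ ∈ univ.erase (0 : F), S ξ * S ξ * ψ (-2 * ξ * v) := sum_congr rfl h1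
      _ = ∑ ξ ∈ univ.erase (0 : F), S ξ * S ξ * S (-2 * ξ) := by
          rw [sum_comm]
          exact sum_congr rfl fun ξ _ => by simp only [hS, mul_sum]
  -- a single value
  have hmax : ∀ η : F, η ≠ 0 → ‖S η‖ ≤ Real.sqrt Q := by
    intro η hη
    refine Real.le_sqrt_of_sq_le ?_
    rw [← Complex.normSq_eq_norm_sq]
    refine le_of_mul_le_mul_left ?_ hApos
    rw [mul_comm (A : ℝ) (Q : ℝ), ← hpars]
    calc (A : ℝ) * Complex.normSq (S η) = ∑ u ∈ U, Complex.normSq (S (η * u)) := by
          rw [sum_congr rfl fun u hu => by rw [hshift η u hu], sum_const, nsmul_eq_mul, hA]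
      _ = ∑ ξ ∈ U.image (η * ·), Complex.normSq (S ξ) := by
          rw [sum_image (mul_right_injective₀ hη).injOn]
      _ ≤ _ := sum_le_sum_of_subset_of_nonneg (subset_univ _) fun ξ _ _ => Complex.normSq_nonneg _
  have hbound : (A : ℝ) * ‖T‖ ≤ (A : ℝ) * ((Q : ℝ) * Real.sqrt Q) := by
    calc (A : ℝ) * ‖T‖ = ‖(A : ℂ) * T‖ := by rw [norm_mul, Complex.norm_natCast]
      _ ≤ ∑ ξ ∈ univ.erase (0 : F), Complex.normSq (S ξ) * Real.sqrt Q := by
          rw [havg]
          refine norm_sum_le_of_le _ fun ξ hξ => ?_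
          rw [norm_mul, norm_mul, Complex.normSq_eq_norm_sq, sq]
          exact mul_le_mul_of_nonneg_left
            (hmax _ (mul_ne_zero (neg_ne_zero.2 h2) (mem_erase.1 hξ).1))
            (mul_self_nonneg _)
      _ ≤ (Q : ℝ) * A * Real.sqrt Q := by
          rw [← sum_mul, ← hpars]
          exact mul_le_mul_of_nonneg_right (sum_le_sum_of_subset_of_nonneg (subset_univ _)
            fun ξ _ _ => Complex.normSq_nonneg _) (Real.sqrt_nonneg _)
      _ = _ := by ring
  have hTle := le_of_mul_le_mul_left hbound hApos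
  have hnorm : ‖T‖ = |(Q : ℝ) * N - (A : ℝ) ^ 2| := by
    rw [hT', show (Q : ℂ) * N - (A : ℂ) ^ 2 = (((Q : ℝ) * N - (A : ℝ) ^ 2 : ℝ) : ℂ) by push_cast; ring,
      Complex.norm_real, Real.norm_eq_abs]
  calc ((Q : ℝ) * N - (A : ℝ) ^ 2) ^ 2 = ‖T‖ ^ 2 := by rw [hnorm, sq_abs]
    _ ≤ ((Q : ℝ) * Real.sqrt Q) ^ 2 := pow_le_pow_left₀ (norm_nonneg _) hTle 2
    _ = (Q : ℝ) ^ 3 := by rw [mul_pow, Real.sq_sqrt (Nat.cast_nonneg _)]; ring

end Bound

variable (p q : ℕ) [Fact p.Prime]

/-- Degree three: a root of some `x ^ 3 - t x ^ 2 + (2 t - 3) x - 1`. -/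
theorem exists_of_cubic (hp : p ≠ 2) :
    ∃ a : GaloisField p 3, a ≠ 1 ∧ Algebra.norm (ZMod p) a = 1 ∧
      Algebra.norm (ZMod p) (2 - a) = 1 := by
  classical
  haveI : Fintype (GaloisField p 3) := Fintype.ofFinite _
  have h2 : (2 : ZMod p) ≠ 0 := by
    intro h
    exact hp ((Nat.prime_dvd_prime_iff_eq Fact.out Nat.prime_two).1
      ((ZMod.natCast_eq_zero_iff 2 p).1 (by exact_mod_cast h)))
  -- a parameter without roots in the prime field
  obtain ⟨t, ht⟩ : ∃ t : ZMod p, ∀ r : ZMod p, r ^ 3 - t * r ^ 2 + (2 * t - 3) * r - 1 ≠ 0 := by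
    by_contra h
    push Not at h
    choose r hr using h
    have hrange : ∀ t, r t ≠ 0 := fun t h => by
      have := hr t; rw [h] at this; simp at this
    have hinj : Function.Injective r := by
      intro t t' he
      have h1 := hr t
      have h1' := hr t'
      rw [← he] at h1'
      have h3 : (t - t') * (r t * (2 - r t)) = 0 := by linear_combination h1 - h1'
      rcases mul_eq_zero.1 h3 with h4 | h4
      · exact sub_eq_zero.1 h4
      rcases mul_eq_zero.1 h4 with h5 | h5
      · exact absurd h5 (hrange t)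
      · exfalso
        rw [sub_eq_zero] at h5
        rw [← h5] at h1
        exact one_ne_zero (α := ZMod p) (by linear_combination h1)
    obtain ⟨t, ht⟩ := hinj.bijective_of_finite.2 0
    exact hrange t ht
  -- a root in the cubic extension
  obtain ⟨a, ha, haK⟩ : ∃ a : GaloisField p 3,
      a ^ 3 - algebraMap (ZMod p) _ t * a ^ 2 +
        (2 * algebraMap (ZMod p) _ t - 3) * a - 1 = 0 ∧
      ∀ r : ZMod p, a ≠ algebraMap (ZMod p) _ r := by
    open Polynomial in
    obtain ⟨f, hfdeg, hfm, hfe⟩ : ∃ f : Polynomial (ZMod p), f.natDegree = 3 ∧ f.Monic ∧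
        ∀ {L : Type} [CommRing L] [Algebra (ZMod p) L] (x : L), aeval x f =
          x ^ 3 - algebraMap (ZMod p) L t * x ^ 2 + (2 * algebraMap (ZMod p) L t - 3) * x - 1 := by
      refine ⟨X ^ 3 + (C (-t) * X ^ 2 + C (2 * t - 3) * X + C (-1)), by compute_degree!,
        monic_X_pow_add (lt_of_le_of_lt (by compute_degree) (by norm_num : (2 : WithBot ℕ) < (3 : ℕ))),
        fun x => ?_⟩
      simp only [map_add, map_mul, map_pow, aeval_X, aeval_C, map_sub, map_neg, map_ofNat, map_one]
      ring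
    have hirr : Irreducible f := by
      refine (Polynomial.Monic.irreducible_iff_roots_eq_zero_of_degree_le_three hfm (by omega)
        (by omega)).2 (Multiset.eq_zero_of_forall_notMem fun r hr => ht r ?_)
      have h := (Polynomial.mem_roots hfm.ne_zero).1 hr
      rw [Polynomial.IsRoot, ← Polynomial.coe_aeval_eq_eval, hfe] at h
      simpa using h
    haveI := Fact.mk hirr
    haveI : Module.Finite (ZMod p) (AdjoinRoot f) := hfm.finite_adjoinRoot
    haveI : Finite (AdjoinRoot f) := Module.finite_of_finite (ZMod p)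
    haveI : Fintype (AdjoinRoot f) := Fintype.ofFinite _
    have hcard : Fintype.card (AdjoinRoot f) = Fintype.card (GaloisField p 3) := by
      rw [← Nat.card_eq_fintype_card, ← Nat.card_eq_fintype_card, GaloisField.card p 3 (by norm_num)]
      haveI : Module.Finite (ZMod p) (AdjoinRoot f) := hfm.finite_adjoinRoot
      have h := Module.natCard_eq_pow_finrank (K := ZMod p) (V := AdjoinRoot f)
      rw [(AdjoinRoot.powerBasis hfm.ne_zero).finrank, AdjoinRoot.powerBasis_dim, hfdeg,
        Nat.card_zmod] at h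
      exact h
    let e := FiniteField.algEquivOfCardEq (K := AdjoinRoot f) (K' := GaloisField p 3) p hcard
    refine ⟨e (AdjoinRoot.root f), ?_, fun r hr => ?_⟩
    · rw [← hfe, Polynomial.aeval_algEquiv, AlgHom.comp_apply]
      simp
    · have h : Polynomial.aeval (e (AdjoinRoot.root f)) f = 0 := by
        rw [Polynomial.aeval_algEquiv, AlgHom.comp_apply]; simp
      rw [hr, Polynomial.aeval_algebraMap_apply, map_eq_zero] at h
      rw [hfe] at h
      exact ht r (by simpa using h)
  -- its conjugates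
  set T := algebraMap (ZMod p) (GaloisField p 3) t
  set σ := frobenius (GaloisField p 3) p with hσ
  have hσT : σ T = T := by
    rw [hσ, frobenius_def, ← map_pow, ZMod.pow_card]
  have hroot : ∀ x, x ^ 3 - T * x ^ 2 + (2 * T - 3) * x - 1 = 0 →
      σ x ^ 3 - T * σ x ^ 2 + (2 * T - 3) * σ x - 1 = 0 := fun x hx => by
    have h := congrArg σ hx
    simpa only [map_sub, map_add, map_mul, map_pow, map_ofNat, map_one, map_zero, hσT] using h
  set b := σ a with hb
  set c := σ b with hc
  have hb' := hroot a ha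
  have hc' := hroot b hb'
  have hab : a ≠ b := by
    intro h
    have h1 : a ^ p = a := by rw [← frobenius_def, ← hσ, ← hb, ← h]
    have h2' := (Subfield.mem_bot_iff_pow_eq_self (F := GaloisField p 3) (p := p)).2 h1
    rw [← ZMod.fieldRange_castHom_eq_bot p] at h2'
    obtain ⟨r, hr⟩ := h2'
    rw [RingHom.ext_zmod (ZMod.castHom dvd_rfl (GaloisField p 3))
      (algebraMap (ZMod p) (GaloisField p 3))] at hr
    exact haK r hr.symm
  have hac : a ≠ c := by
    intro h
    have h3 : σ c = a := by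
      rw [hc, hb, hσ, frobenius_def, frobenius_def, frobenius_def, ← pow_mul, ← pow_mul,
        show p * (p * p) = p ^ 3 by ring, ← GaloisField.card p 3 (by norm_num),
        Nat.card_eq_fintype_card, FiniteField.pow_card]
    rw [← h] at h3
    exact hab (h3.symm.trans hb.symm)
  have hbc : b ≠ c := fun h => hab (frobenius_inj _ p h)
  have e1 : a ^ 2 + a * b + b ^ 2 - T * (a + b) + (2 * T - 3) = 0 := by
    refine mul_left_cancel₀ (sub_ne_zero.2 hab) ?_
    linear_combination ha - hb'
  have e2 : b ^ 2 + b * c + c ^ 2 - T * (b + c) + (2 * T - 3) = 0 := by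
    refine mul_left_cancel₀ (sub_ne_zero.2 hbc) ?_
    linear_combination hb' - hc'
  have e3 : a + b + c - T = 0 := by
    refine mul_left_cancel₀ (sub_ne_zero.2 hac) ?_
    linear_combination e1 - e2
  have e4 : a * b + b * c + c * a = 2 * T - 3 := by linear_combination (a + b) * e3 - e1
  have e5 : a * b * c = 1 := by linear_combination ha + a ^ 2 * (-1) * e3 * (-1) * (-1) + a * e4
  have hnorm : ∀ x : GaloisField p 3, algebraMap (ZMod p) (GaloisField p 3) (Algebra.norm (ZMod p) x) =
      x * σ x * σ (σ x) := by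
    intro x
    rw [FiniteField.algebraMap_norm_eq_prod_pow, GaloisField.finrank p (by norm_num), Nat.card_zmod,
      Finset.prod_range_succ, Finset.prod_range_succ, Finset.prod_range_one, pow_zero, pow_one,
      pow_one, hσ, frobenius_def, frobenius_def, ← pow_mul, ← pow_two]
  have hinj := (algebraMap (ZMod p) (GaloisField p 3)).injective
  refine ⟨a, fun h => haK 1 (by rw [h, map_one]), hinj ?_, hinj ?_⟩
  · rw [hnorm, map_one, ← hb, ← hc]
    exact e5
  · rw [hnorm, map_one, map_sub σ, map_ofNat, ← hb, map_sub σ, map_ofNat, ← hc]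
    linear_combination 2 * e4 - 4 * e3 - e5

/-- At least two elements `a` with `a` and `2 - a` of norm one. -/
theorem two_le_ncard [hq' : Fact q.Prime] (hp : p ≠ 2) (hq : q ≠ 2) :
    2 ≤ Set.ncard {a : GaloisField p q |
      Algebra.norm (ZMod p) a = 1 ∧ Algebra.norm (ZMod p) (2 - a) = 1} := by
  classical
  haveI : Fintype (GaloisField p q) := Fintype.ofFinite _
  have hpp : p.Prime := Fact.out
  set E := {a : GaloisField p q |
      Algebra.norm (ZMod p) a = 1 ∧ Algebra.norm (ZMod p) (2 - a) = 1} with hE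
  have h1E : (1 : GaloisField p q) ∈ E := by
    refine ⟨map_one _, ?_⟩
    rw [show (2 : GaloisField p q) - 1 = 1 by ring, map_one]
  have hq3 : 3 ≤ q := by
    have := hq'.out.two_le
    omega
  rcases Nat.eq_or_lt_of_le hq3 with h | h
  · subst h
    obtain ⟨a, ha, h1, h2⟩ := exists_of_cubic p hp
    refine le_trans (Set.ncard_pair ha).ge (Set.ncard_le_ncard ?_)
    exact Set.insert_subset ⟨h1, h2⟩ (Set.singleton_subset_iff.2 h1E)
  have hq5 : 5 ≤ q := by
    rcases Nat.eq_or_lt_of_le (show 4 ≤ q by omega) with h4 | h4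
    · exact absurd (h4 ▸ hq'.out) (by norm_num)
    · omega
  have hp3 : 3 ≤ p := by
    have := hpp.two_le
    omega
  have h2 : (2 : GaloisField p q) ≠ 0 := Ring.two_ne_zero (by
    rw [ringChar.eq (GaloisField p q) p]; exact hp)
  set U := (univ : Finset (GaloisField p q)).filter fun a => Algebra.norm (ZMod p) a = 1 with hU
  have hEU : E = ↑(U.filter fun u => 2 - u ∈ U) := by
    ext a
    simp [hE, hU]
  have hbd := sum_count_bound U ⟨1, by simp [hU]⟩ (by simp [hU])
    (fun u hu v hv => by simp [hU] at hu hv ⊢; simp [hu, hv]) h2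
  have hQ : Fintype.card (GaloisField p q) = p ^ q := by
    rw [← Nat.card_eq_fintype_card, GaloisField.card p q hq'.out.ne_zero]
  -- the number of elements of norm one
  have hUcard : U.card * (p - 1) = p ^ q - 1 := by
    set φ := Units.map (Algebra.norm (ZMod p) (S := GaloisField p q)) with hφ
    have h := Subgroup.card_mul_index φ.ker
    rw [Subgroup.index_ker, MonoidHom.range_eq_top.2 (FiniteField.unitsMap_norm_surjective (ZMod p) (GaloisField p q)),
      Subgroup.card_top, Nat.card_units, Nat.card_units, Nat.card_zmod,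
      GaloisField.card p q hq'.out.ne_zero] at h
    rw [← h]
    congr 1
    rw [← Nat.card_eq_finsetCard]
    refine Nat.card_congr
      { toFun := fun x => ⟨Units.mk0 x.1 (fun h0 => by
            have := (mem_filter.1 x.2).2; simp [h0] at this), MonoidHom.mem_ker.2 (Units.ext (by
            simpa [hφ] using (mem_filter.1 x.2).2))⟩
        invFun := fun u => ⟨(u.1 : GaloisField p q), mem_filter.2 ⟨mem_univ _, by
          simpa [hφ] using congrArg Units.val (MonoidHom.mem_ker.1 u.2)⟩⟩
        left_inv := fun x => Subtype.ext rfl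
        right_inv := fun u => Subtype.ext (Units.ext rfl) }
  by_contra hlt
  rw [hEU, Set.ncard_coe_finset] at hlt
  rw [hQ] at hbd
  set N := (U.filter fun u => 2 - u ∈ U).card
  have hN : (N : ℝ) ≤ 1 := by exact_mod_cast (show N ≤ 1 by omega)
  push_cast at hbd
  obtain ⟨k, rfl⟩ : ∃ k, q = k + 5 := ⟨q - 5, by omega⟩
  have hA : (p : ℝ) ^ (k + 4) ≤ U.card := by
    have h : p ^ (k + 4) * (p - 1) ≤ U.card * (p - 1) := by
      rw [hUcard, Nat.mul_sub_one, ← pow_succ]
      exact Nat.sub_le_sub_left (Nat.one_le_pow _ _ hpp.pos) _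
    exact_mod_cast Nat.le_of_mul_le_mul_right h (by omega)
  have hp3' : (3 : ℝ) ≤ p := by exact_mod_cast hp3
  set P : ℝ := (p : ℝ) ^ (k + 4) with hP
  set Q : ℝ := (p : ℝ) ^ (k + 5) with hQdef
  have hPpos : 0 < P := by positivity
  have hQpos : 0 < Q := by positivity
  have hQP : Q = P * p := by rw [hP, hQdef, pow_succ]
  have hk : (p : ℝ) ^ 4 ≤ P := pow_le_pow_right₀ (by linarith) (by omega)
  have h1 : 3 * P ^ 2 / 4 ≤ (U.card : ℝ) ^ 2 - Q * N := by
    have h4 : P ^ 2 ≤ (U.card : ℝ) ^ 2 := pow_le_pow_left₀ hPpos.le hA 2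
    have h5 : Q * N ≤ Q * 1 := mul_le_mul_of_nonneg_left hN hQpos.le
    have h6 : 4 * Q ≤ P ^ 2 := by
      rw [hQP]
      have h7 : 4 * (p : ℝ) ≤ (p : ℝ) ^ 4 := by
        calc 4 * (p : ℝ) ≤ (p : ℝ) ^ 3 * p :=
              mul_le_mul_of_nonneg_right (le_trans (by norm_num) (pow_le_pow_left₀ (by norm_num) hp3' 3))
                (by linarith)
          _ = _ := by ring
      nlinarith
    linarith
  have h3 : 9 * P ^ 4 ≤ 16 * Q ^ 3 := by
    nlinarith [pow_le_pow_left₀ (by positivity) h1 2]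
  rw [hQP] at h3
  have h8 : 9 * P ≤ 16 * (p : ℝ) ^ 3 := by
    have : P ^ 3 * (9 * P) ≤ P ^ 3 * (16 * (p : ℝ) ^ 3) := by ring_nf at h3 ⊢; linarith
    exact le_of_mul_le_mul_left this (by positivity)
  nlinarith [mul_le_mul_of_nonneg_right hp3' (by positivity : (0:ℝ) ≤ (p : ℝ) ^ 3),
    pow_pos (show (0 : ℝ) < p by linarith) 3]

end Cfsg.Agent.FinalField
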